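import Cfsg.Agent.S6.Dbl
import Cfsg.Agent.S0814
import Cfsg.Agent.BG.Base2
import Cfsg.Agent.Inv.Basic
import Cfsg.Agent.PLoc.Cores
import Cfsg.Agent.Blk.ZStar
import Cfsg.Prelude.Def_SporadicB
/-! Standard subgroups of type `2.Sp₆(2)` in locally balanced simple groups are involution centralisers. -/
set_option autoImplicit false
set_option linter.unusedVariables false

namespace Cfsg.Agent.S6
open Subgroup Cfsg.Agent.BG Cfsg.Agent.Inv

variable {G : Type*} [Group G]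

/-- the setting -/
structure St (z : G) (L : Subgroup G) (π : G → Sp) : Prop where
  oz : orderOf z = 2
  zL : z ∈ L
  LC : L ≤ C1[z]
  nL : C1[z] ≤ N[L]
  mul : ∀ a ∈ C1[z], ∀ b ∈ C1[z], π (a * b) = π a * π b
  ker : ∀ a ∈ C1[z], π a = 1 ↔ a ∈ C[L]
  kerL : ∀ a ∈ L, π a = 1 → a = 1 ∨ a = z
  sur : ∀ σ, ∃ a ∈ L, π a = σ
  dbl : ∀ a ∈ L, IsC2 (π a) → a * a = z
  ti : ∀ u ∈ C[L], orderOf u = 2 → ∀ g, g * u * g⁻¹ ∈ C[L] → g ∈ C1[z]

variable {z t a b u x : G} {L M : Subgroup G} {π φ : G → Sp} {n : ℕ}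

theorem conj_C {g : G} (hg : g ∈ N[M]) (hx : x ∈ C[M]) : g * x * g⁻¹ ∈ C[M] := mem_C.2 fun m i => by
  rw [show m * (g * x * g⁻¹) = g * (g⁻¹ * m * g * x) * g⁻¹ by group, mem_C.1 hx _ (conj_mem' hg i)]; group

namespace St
variable (h : St z L π)
include h

theorem KC : C[L] ≤ C1[z] := fun a i => mem_C1'.2 (mem_C.1 i z h.zL)
theorem zK : z ∈ C[L] := mem_C.2 fun a i => mem_C1.1 (h.LC i)
theorem one : π 1 = 1 := (h.ker 1 (one_mem _)).2 (one_mem _)
theorem pz : π z = 1 := (h.ker z (mem_C1_self z)).2 h.zK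
theorem pow (ha : a ∈ C1[z]) (n : ℕ) : π (a ^ n) = π a ^ n := by
  induction n with
  | zero => simp [h.one]
  | succ n ih => rw [pow_succ, h.mul _ (pow_mem ha n) _ ha, ih, pow_succ]
theorem inv (ha : a ∈ C1[z]) : π a⁻¹ = (π a)⁻¹ :=
  eq_inv_of_mul_eq_one_left (by rw [← h.mul _ (inv_mem ha) _ ha, inv_mul_cancel, h.one])
theorem cnj (ha : a ∈ C1[z]) (hb : b ∈ C1[z]) : π (a * b * a⁻¹) = π a * π b * (π a)⁻¹ := by
  rw [h.mul _ (mul_mem ha hb) _ (inv_mem ha), h.mul _ ha _ hb, h.inv ha]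
theorem cm (ha : a ∈ C1[z]) (hb : b ∈ C1[z]) (e : a * b = b * a) : π a * π b = π b * π a := by
  rw [← h.mul _ ha _ hb, e, h.mul _ hb _ ha]
theorem p1 (ha : a ∈ C1[z]) (e : a ^ n = 1) : π a ^ n = 1 := by rw [← h.pow ha, e, h.one]
theorem sq (ha : a ∈ C1[z]) (e : a * a = 1) : π a * π a = 1 := by rw [← h.mul _ ha _ ha, e, h.one]
theorem eqK (ha : a ∈ C1[z]) (hb : b ∈ C1[z]) (e : π a = π b) : a⁻¹ * b ∈ C[L] :=
  (h.ker _ (mul_mem (inv_mem ha) hb)).1 (by rw [h.mul _ (inv_mem ha) _ hb, h.inv ha, e, inv_mul_cancel])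
theorem eqL (ha : a ∈ L) (hb : b ∈ L) (e : π a = π b) : b = a ∨ b = a * z :=
  (h.kerL _ (mul_mem (inv_mem ha) hb) ((h.ker _ (h.LC (mul_mem (inv_mem ha) hb))).2 (h.eqK (h.LC ha) (h.LC hb) e))).imp
    (fun i => (inv_mul_eq_one.1 i).symm) fun i => by rw [← i, mul_inv_cancel_left]
theorem powL (ha : a ∈ L) (e : π a ^ n = 1) : a ^ (n * 2) = 1 := by
  rcases h.kerL _ (pow_mem ha n) (by rw [h.pow (h.LC ha), e]) with i | i <;> rw [pow_mul, i, pow_two]
  exacts [mul_one 1, sq_of_ord2 h.oz]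

theorem lift {f : Sp} (hn : Odd n) (e : f ^ n = 1) : ∃ b ∈ L, π b = f ∧ b ^ n = 1 := by
  obtain ⟨a, ha, rfl⟩ := h.sur f
  obtain ⟨k, hk⟩ := hn.add_one.two_dvd
  exact ⟨a ^ (n + 1), pow_mem ha _, by rw [h.pow (h.LC ha), pow_succ, e, one_mul],
    by rw [← pow_mul, mul_comm, hk, ← mul_assoc, pow_mul, h.powL ha e, one_pow]⟩

theorem comm (hn : Odd n) (hx : x ∈ C1[z]) (hb : b ∈ L) (e : b ^ n = 1) (c : π x * π b = π b * π x) : x * b = b * x := by
  rcases h.eqL hb (conj_mem (h.nL hx) hb) (by rw [h.cnj hx (h.LC hb), c, mul_inv_cancel_right]) with i | i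
  · exact mul_inv_eq_iff_eq_mul.1 i
  · have := congrArg (· ^ n) i
    obtain ⟨k, rfl⟩ := hn
    simp only [conj_pow, (show Commute b z from mem_C1.1 (h.LC hb)).mul_pow, e] at this
    rw [pow_succ, pow_mul, pow_two, sq_of_ord2 h.oz] at this
    exact absurd (by simpa using this.symm) (ne_one_of_ord2 h.oz)

theorem conj (g : G) : St (g * z * g⁻¹) (BG.cj g L) fun a => π (g⁻¹ * a * g) := by
  have c : ∀ {a}, a ∈ C1[g * z * g⁻¹] ↔ g⁻¹ * a * g ∈ C1[z] := by rw [← cj_C1]; exact mem_cj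
  have k : ∀ {a}, a ∈ C[BG.cj g L] ↔ g⁻¹ * a * g ∈ C[L] := by rw [← cj_C]; exact mem_cj
  have m : ∀ a b, g⁻¹ * (a * b) * g = g⁻¹ * a * g * (g⁻¹ * b * g) := fun a b => by group
  refine ⟨by rw [orderOf_conj', h.oz], mem_cj_conj.2 h.zL, fun a i => c.2 (h.LC (mem_cj.1 i)), by
    rw [← cj_C1, ← cj_N]; exact cj_mono g h.nL, fun a i b j => by rw [m, h.mul _ (c.1 i) _ (c.1 j)],
    fun a i => (h.ker _ (c.1 i)).trans k.symm, fun a i j => (h.kerL _ (mem_cj.1 i) j).imp (fun e => by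
      simpa [mul_assoc] using congrArg (g * · * g⁻¹) e) fun e => by rw [← e]; group,
    fun σ => ?_, fun a i j => by rw [← h.dbl _ (mem_cj.1 i) j]; group, fun u i j y l => c.2 (h.ti _ (k.1 i)
      (by rw [orderOf_conj'', j]) _ (by convert k.1 l using 1; group))⟩
  obtain ⟨a, j, e⟩ := h.sur σ
  exact ⟨_, mem_cj_conj.2 j, by rw [← e]; congr 1; group⟩

end St

/-- a commuting pair -/
structure Pr (z : G) (L : Subgroup G) (π : G → Sp) (t : G) (M : Subgroup G) (φ : G → Sp) : Prop where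
  l : St z L π
  r : St t M φ
  tz : t ∈ C1[z]
  n1 : π t ≠ 1
  n2 : φ z ≠ 1

theorem St.pr (h : St z L π) {g : G} (hc : g * z * g⁻¹ ∈ C1[z]) (hn : g * z * g⁻¹ ≠ z) :
    Pr z L π (g * z * g⁻¹) (BG.cj g L) fun a => π (g⁻¹ * a * g) := by
  have k : g ∉ C1[z] := fun i => hn (by rw [mem_C1.1 i, mul_inv_cancel_right])
  refine ⟨h, h.conj g, hc, fun e => k (h.ti z h.zK h.oz g ((h.ker _ hc).1 e)), fun e => k (inv_mem_iff.1
    (h.ti z h.zK h.oz g⁻¹ ?_))⟩
  rw [inv_inv]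
  exact (h.ker _ (mem_cj.1 (cj_C1 g z ▸ C1_symm hc))).1 e

namespace Pr
variable (h : Pr z L π t M φ)
include h

theorem symm : Pr t M φ z L π := ⟨h.r, h.l, C1_symm h.tz, h.n2, h.n1⟩

theorem tt : π t * π t = 1 := h.l.sq h.tz (sq_of_ord2 h.r.oz)

theorem nKK (hu : orderOf u = 2) (h1 : u ∈ C[L]) (h2 : u ∈ C[M]) : False :=
  h.n2 ((h.r.ker z h.symm.tz).2 (mem_C.2 fun m i => mem_C1.1 (h.l.ti u h1 hu m (by
    rwa [mem_C.1 h2 m i, mul_inv_cancel_right]))))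

theorem B (hu : orderOf u = 2) (h1 : u ∈ C1[z]) (h2 : u ∈ C[M]) : u = t := by
  by_contra n
  have key : ∀ u, orderOf u = 2 → u ∈ C1[z] → u ∈ C[M] → ∀ f : Sp, f ^ 3 = 1 → π u * f = f * π u →
      π t * f = f * π t := fun u hu h1 h2 f a c => by
    obtain ⟨x, xL, rfl, x5⟩ := h.l.lift (by decide) a
    exact h.l.cm h.tz (h.l.LC xL) (mem_C1'.1 (h.r.ti u h2 hu x (by
      rwa [← h.l.comm (by decide) h1 xL x5 c, mul_inv_cancel_right])))
  have c : t * u = u * t := mem_C.1 h2 t h.r.zL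
  have o : orderOf (u * t) = 2 := ord2_iff.2 ⟨by
    rw [mul_assoc, ← mul_assoc t, c, mul_assoc, sq_of_ord2 h.r.oz, mul_one, sq_of_ord2 hu],
    fun i => n (by rw [eq_inv_of_mul_eq_one_left i, inv_of_ord2 h.r.oz])⟩
  have m := mul_mem h2 h.r.zK
  have e := h.l.mul _ h1 _ h.tz
  obtain ⟨p1, p2, p3⟩ := P3 (l := π t) (r := π u) ⟨h.tt, h.l.sq h1 (sq_of_ord2 hu), h.n1, fun i => h.nKK o
    ((h.l.ker _ (mul_mem h1 h.tz)).1 (by rw [e, ← i, h.tt])) m, h.l.cm h.tz h1 c, key u hu h1 h2,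
    e ▸ key _ o (mul_mem h1 h.tz) m⟩ fun e => h.nKK hu ((h.l.ker u h1).1 e) h2
  obtain ⟨a, aL, ea⟩ := h.l.sur (π u)
  obtain ⟨b, bL, eb⟩ := h.l.sur (π t)
  have c1 : Commute a u := by
    simpa using (Commute.refl a).mul_right (show Commute a (a⁻¹ * u) from mem_C.1 (h.l.eqK (h.l.LC aL) h1 ea) a aL)
  have c2 : Commute a t := mem_C1.1 (h.r.ti u h2 hu a (by rwa [c1.eq, mul_inv_cancel_right]))
  have c3 : Commute a b := by
    simpa using c2.mul_right (show Commute a (b⁻¹ * t) from mem_C.1 (h.l.eqK (h.l.LC bL) h.tz eb) a aL).inv_right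
  have q := h.l.dbl _ (mul_mem aL bL) (by rwa [h.l.mul _ (h.l.LC aL) _ (h.l.LC bL), ea, eb])
  rw [← pow_two, c3.mul_pow, pow_two, pow_two, h.l.dbl a aL (ea ▸ p1), h.l.dbl b bL (eb ▸ p2), sq_of_ord2 h.l.oz] at q
  exact ne_one_of_ord2 h.l.oz q.symm

variable [Finite G]

theorem C0 (h1 : x ∈ C1[z]) (h2 : x ∈ C[M]) : x * x ≠ t := fun e => by
  let N : Subgroup Sp :=
    { carrier := {s | ∃ n ∈ C1[z], n ∈ C[M] ∧ π n = s}
      one_mem' := ⟨1, one_mem _, one_mem _, h.l.one⟩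
      mul_mem' := by
        rintro _ _ ⟨a, i, j, rfl⟩ ⟨b, k, l, rfl⟩
        exact ⟨a * b, mul_mem i k, mul_mem j l, h.l.mul a i b k⟩
      inv_mem' := by
        rintro _ ⟨a, i, j, rfl⟩
        exact ⟨a⁻¹, inv_mem i, inv_mem j, h.l.inv i⟩ }
  have q : π x * π x = π t := by rw [← h.l.mul _ h1 _ h1, e]
  refine P4 (x := π x) (N := N) (q ▸ ⟨fun f a c => ?_, fun f a c => ?_, ?_⟩) (q ▸ h.n1)
    (by rw [show 4 = 2 * 2 from rfl, pow_mul, pow_two, pow_two, q, h.tt]) ⟨x, h1, h2, rfl⟩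
  · obtain ⟨y, yL, rfl, y3⟩ := h.l.lift (by decide) a
    have yt := mem_C1'.2 (h.l.comm (by decide) h.tz yL y3 c)
    rintro _ ⟨n, i, j, rfl⟩
    exact ⟨_, mul_mem (mul_mem (h.l.LC yL) i) (inv_mem (h.l.LC yL)), conj_C (h.r.nL yt) j, h.l.cnj (h.l.LC yL) i⟩
  · obtain ⟨y, yL, rfl, y3⟩ := h.l.lift (by decide) a
    have yz := h.l.LC yL
    have yt := mem_C1'.2 (h.l.comm (by decide) h.tz yL y3 c)
    obtain ⟨a, aM, ea, a3⟩ := h.r.lift (by decide) (h.r.p1 yt y3)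
    have az := mem_C1'.2 (h.r.comm (by decide) h.symm.tz aM a3 (ea ▸ h.r.cm h.symm.tz yt (mem_C1'.1 yz)))
    have k := h.r.eqK (h.r.LC aM) yt ea
    refine ⟨π a, h.l.p1 az a3, h.l.cm az yz ?_, ?_, _, mul_mem (inv_mem az) yz, k, by
      rw [h.l.mul _ (inv_mem az) _ yz, h.l.inv az]⟩
    · simpa using ((Commute.refl a).mul_right (show Commute a (a⁻¹ * y) from mem_C.1 k a aM)).eq
    · rintro _ ⟨n, i, j, rfl⟩
      exact h.l.cm az i (mem_C.1 j a aM)
  · rintro _ ⟨n, i, j, rfl⟩ k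
    have nK : n * n ∈ C[L] := (h.l.ker _ (mul_mem i i)).1 (by rwa [h.l.mul _ i _ i])
    obtain ⟨m, hm⟩ : Odd (orderOf (n * n)) := Nat.not_even_iff_odd.1 fun o =>
      h.nKK (orderOf_pow_orderOf_div (orderOf_pos _).ne' o.two_dvd) (pow_mem nK _) (pow_mem (mul_mem j j) _)
    have p : π (n ^ (2 * m + 1)) = π n := by rw [h.l.pow i, pow_succ, pow_mul, pow_two, k, one_pow, one_mul]
    have s : n ^ (2 * m + 1) * n ^ (2 * m + 1) = 1 := by
      rw [← (Commute.refl n).mul_pow, ← hm, pow_orderOf_eq_one]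
    by_cases o : n ^ (2 * m + 1) = 1
    · exact .inl (by rw [← p, o, h.l.one])
    · exact .inr (by rw [← p, h.B (ord2_iff.2 ⟨s, o⟩) (pow_mem i _) (pow_mem j _)])

theorem two0 (h1 : u ∈ C1[t]) (h2 : u ∈ C[L]) (e : u ^ 2 ^ n = 1) : u = 1 ∨ u = z := by
  induction n generalizing u with
  | zero => exact .inl (by simpa using e)
  | succ n ih =>
    rcases ih (mul_mem h1 h1) (mul_mem h2 h2) (by rwa [← pow_two, ← pow_mul, ← pow_succ']) with i | i
    · exact or_iff_not_imp_left.2 fun j => h.symm.B (ord2_iff.2 ⟨i, j⟩) h1 h2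
    · exact absurd i (h.symm.C0 h1 h2)

theorem tL : t ∈ L := by
  obtain ⟨a, aL, ea⟩ := h.l.sur (π t)
  have k := h.l.eqK (h.l.LC aL) h.tz ea
  have c : Commute a t := by simpa using (Commute.refl a).mul_right (show Commute a (a⁻¹ * t) from mem_C.1 k a aL)
  have e : t ^ 2 ^ 1 = 1 := by rw [pow_one, pow_two, sq_of_ord2 h.r.oz]
  rcases h.two0 (n := 1 + 1) (mem_C1.2 (c.inv_left.mul_left (Commute.refl t))) k (by
    rw [c.inv_left.mul_pow, inv_pow, pow_succ, h.l.powL aL (ea ▸ h.l.p1 h.tz e), pow_mul, e]; simp) with i | i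
  · rwa [← inv_mul_eq_one.1 i]
  · rw [inv_mul_eq_iff_eq_mul.1 i]; exact mul_mem aL h.l.zL

theorem two (h2 : u ∈ C[L]) (e : u ^ 2 ^ n = 1) : u = 1 ∨ u = z := h.two0 (mem_C1'.2 (mem_C.1 h2 t h.tL)) h2 e

end Pr

theorem psp {F : Type*} [Field F] [Fintype F] (hF : Fintype.card F = 2) : Nonempty (PSp 3 F ≃* Sp) := by
  have e : F ≃+* ZMod 2 := (ZMod.ringEquivOfPrime F Nat.prime_two hF).symm
  have c : center (Matrix.symplecticGroup (Fin 3) F) = ⊥ := card_eq_one.1 (S0246.result hF 3 (by omega))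
  let f : Matrix.symplecticGroup (Fin 3) F ≃* Sp :=
    { toFun := fun A => ⟨A.1.map e, SymplecticGroup.map_mem A.2 e⟩
      invFun := fun A => ⟨A.1.map e.symm, SymplecticGroup.map_mem A.2 e.symm⟩
      left_inv := fun A => Subtype.ext (by ext; simp)
      right_inv := fun A => Subtype.ext (by ext; simp)
      map_mul' := fun A B => Subtype.ext Matrix.map_mul }
  exact ⟨((QuotientGroup.quotientMulEquivOfEq c).trans QuotientGroup.quotientBot).trans f⟩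

theorem cent_triv {σ : Sp} (h : ∀ y, σ * y = y * σ) : σ = 1 := by
  have c : center Sp = ⊥ := card_eq_one.1 (S0246.result (ZMod.card 2) 3 (by omega))
  exact mem_bot.1 (c ▸ mem_center_iff.2 fun y => (h y).symm)

theorem aut {H : Type*} [Group H] (ψ ψ' : H →* Sp) (s : Function.Surjective ψ) (s' : Function.Surjective ψ')
    (k : ψ.ker = ψ'.ker) : ∃ σ : Sp, ∀ h, ψ' h = σ * ψ h * σ⁻¹ := by
  have : Fact (Nat.Prime 2) := ⟨Nat.prime_two⟩
  obtain ⟨e⟩ := psp (ZMod.card 2)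
  have c := S0814.result (F := ZMod 2) 2 1 le_rfl (ZMod.card 2) 3 (by omega) (by omega)
  rw [Nat.card_congr (MulAut.congr e).toEquiv, Nat.card_congr e.toEquiv] at c
  have b : Function.Bijective (MulAut.conj : Sp → MulAut Sp) := (Nat.bijective_iff_injective_and_card _).2
    ⟨(injective_iff_map_eq_one _).2 fun σ i => cent_triv fun y => mul_inv_eq_iff_eq_mul.1 (DFunLike.congr_fun i y),
      by simpa using c.symm⟩
  obtain ⟨σ, hσ⟩ := b.2 ((QuotientGroup.quotientKerEquivOfSurjective ψ s).symm.trans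
    ((QuotientGroup.quotientMulEquivOfEq k).trans (QuotientGroup.quotientKerEquivOfSurjective ψ' s')))
  refine ⟨σ, fun h => ?_⟩
  rw [← MulAut.conj_apply, hσ, show ψ h = QuotientGroup.quotientKerEquivOfSurjective ψ s h from rfl,
    MulEquiv.trans_apply, MulEquiv.symm_apply_apply]
  rfl

theorem aut_triv {H : Type*} [Group H] [hp : Group.IsPerfect H] (α : H →* H) (h : ∀ x, α x * x⁻¹ ∈ center H) (x : H) :
    α x = x := by
  let f : H →* center H := MonoidHom.mk' (fun x => ⟨_, h x⟩) fun a b => Subtype.ext (by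
    simp only [coe_mul, map_mul, mul_inv_rev]
    rw [mul_assoc (α a) a⁻¹, mem_center_iff.1 (h b)]; group)
  have : commutator H ≤ f.ker := commutator_le.2 fun a _ b _ => by
    rw [MonoidHom.mem_ker, map_commutatorElement, commutatorElement_eq_one_iff_mul_comm]
    exact Subtype.ext (mem_center_iff.1 (f b).2 _)
  have := this (hp.commutator_eq_top ▸ mem_top x)
  exact mul_inv_eq_one.1 (congrArg Subtype.val this)

variable [Finite G]

theorem exists_st (hL : IsStandardSubgroup L) (h1 : Nat.card (center L) = 2) (e : L ⧸ center L ≃* Sp) :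
    ∃ z π, St z L π := by
  obtain ⟨⟨hp, -⟩, ⟨-, h2⟩, -, h4⟩ := hL
  obtain ⟨ψ, hk, hs⟩ : ∃ ψ : L →* Sp, ψ.ker = center L ∧ Function.Surjective ψ :=
    ⟨e.toMonoidHom.comp (QuotientGroup.mk' _), by ext x; simp, e.surjective.comp (QuotientGroup.mk'_surjective _)⟩
  obtain ⟨⟨⟨z, zL⟩, zc⟩, z1, hz⟩ := (Nat.card_eq_two_iff' (1 : center L)).1 h1
  have c : ∀ a ∈ center L, a = 1 ∨ a = ⟨z, zL⟩ := fun a i => or_iff_not_imp_left.2 fun j =>
    congrArg Subtype.val (hz ⟨a, i⟩ fun k => j (congrArg Subtype.val k))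
  have z1' : (⟨z, zL⟩ : L) ≠ 1 := fun k => z1 (Subtype.ext k)
  have zz : (⟨z, zL⟩ : L) * ⟨z, zL⟩ = 1 := (c _ (mul_mem zc zc)).resolve_right (by simpa using z1')
  have oz : orderOf (⟨z, zL⟩ : L) = 2 := ord2_iff.2 ⟨zz, z1'⟩
  have d := dbl hs zz (mem_center_iff.1 zc) (fun a i => c a (hk ▸ i)) z1' (by rwa [← hk] at zc)
  have LC : L ≤ C1[z] := fun a i => mem_C1.2 (congrArg Subtype.val (mem_center_iff.1 zc ⟨a, i⟩))
  let α : N[L] → L ≃* L := fun g => L.normalizerMonoidHom g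
  have hα : ∀ g y, (α g y : G) = g.1 * y * g.1⁻¹ := fun _ _ => rfl
  have oz' : orderOf z = 2 := by rw [← oz, orderOf_mk]
  have NC : N[L] ≤ C1[z] := fun g i => mem_C1.2 (mul_inv_eq_iff_eq_mul.1 (congrArg Subtype.val
    ((c (α ⟨g, i⟩ ⟨z, zL⟩) ((MulEquivClass.apply_mem_center_iff _).2 zc)).resolve_left fun j =>
      ne_one_of_ord2 oz (by simpa using j))))
  have ti : ∀ u ∈ C[L], orderOf u = 2 → ∀ g, g * u * g⁻¹ ∈ C[L] → g ∈ N[L] := fun u i j g k => by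
    rw [h4]
    by_contra n
    have := orderOf_dvd_natCard _ (mem_inf.2 ⟨k, mem_cj_conj.2 i⟩)
    rw [orderOf_conj', j] at this
    exact Nat.not_even_iff_odd.2 (h2 g n) (even_iff_two_dvd.2 this)
  have zK : z ∈ C[L] := mem_C.2 fun a i => mem_C1.1 (LC i)
  have CN : C1[z] ≤ N[L] := fun g i => ti z zK oz' g (by rwa [mem_C1.1 i, mul_inv_cancel_right])
  have ex : ∀ g, ∃ σ : Sp, ∀ i : g ∈ N[L], ∀ y, ψ (α ⟨g, i⟩ y) = σ * ψ y * σ⁻¹ := fun g => by
    by_cases i : g ∈ N[L]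
    · obtain ⟨σ, e⟩ := aut ψ (ψ.comp (α ⟨g, i⟩).toMonoidHom) hs (hs.comp (α _).surjective) (by
        ext y; rw [← MonoidHom.comap_ker, mem_comap, hk]; exact (MulEquivClass.apply_mem_center_iff (α ⟨g, i⟩)).symm)
      exact ⟨σ, fun _ => e⟩
    · exact ⟨1, fun j => absurd j i⟩
  choose π hπ using ex
  have un : ∀ σ τ : Sp, (∀ y, σ * ψ y * σ⁻¹ = τ * ψ y * τ⁻¹) → σ = τ := fun σ τ i =>
    (inv_mul_eq_one.1 (cent_triv fun y => by
      obtain ⟨y, rfl⟩ := hs y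
      rw [mul_assoc, mul_inv_eq_iff_eq_mul.1 (i y)]; group)).symm
  have pL : ∀ a (i : a ∈ L), π a = ψ ⟨a, i⟩ := fun a i => un _ _ fun y => by
    rw [← hπ a (normG L i), show α ⟨a, normG L i⟩ y = ⟨a, i⟩ * y * ⟨a, i⟩⁻¹ from rfl]; simp
  refine ⟨z, π, oz', zL, LC, CN, fun a i b j => un _ _ fun y => ?_, fun a i => ⟨fun e => mem_C.2 fun y j => ?_,
    fun e => un _ _ fun y => ?_⟩, fun a i e => ?_, fun σ => ?_,
    fun a i e => congrArg Subtype.val (d ⟨a, i⟩ (pL a i ▸ e)), fun u i j g k => NC (ti u i j g k)⟩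
  · rw [← hπ _ (CN (mul_mem i j)), show α ⟨a * b, _⟩ y = α ⟨a, CN i⟩ (α ⟨b, CN j⟩ y) from
      Subtype.ext (by simp only [hα]; group), hπ, hπ]; group
  · have := aut_triv (α ⟨a, CN i⟩).toMonoidHom (fun y => by
      rw [← hk, MonoidHom.mem_ker, map_mul, map_inv, mul_inv_eq_one]
      simpa [e] using hπ a (CN i) y) ⟨y, j⟩
    exact (mul_inv_eq_iff_eq_mul.1 (congrArg Subtype.val this)).symm
  · rw [← hπ _ (CN i), show α ⟨a, _⟩ y = y from Subtype.ext (by rw [hα, ← mem_C.1 e y y.2, mul_inv_cancel_right])]; simp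
  · exact (c ⟨a, i⟩ (hk ▸ (pL a i ▸ e : ψ ⟨a, i⟩ = 1))).imp (congrArg Subtype.val) (congrArg Subtype.val)
  · obtain ⟨⟨a, j⟩, e⟩ := hs σ
    exact ⟨a, j, by rw [pL a j, e]⟩

theorem St.exists_pr [IsSimpleGroup G] (hG : ¬ IsMulCommutative G) (h : St z L π) :
    ∃ g, g * z * g⁻¹ ∈ C1[z] ∧ g * z * g⁻¹ ≠ z := by
  by_contra! n
  have : Fact (Nat.Prime 2) := ⟨Nat.prime_two⟩
  have hO : pPrimeCore 2 G = ⊥ := by
    refine (inferInstance : (pPrimeCore 2 G).Normal).eq_bot_or_eq_top.resolve_right fun q => ?_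
    have := Core.not_dvd_card_pPrimeCore (G := G) 2
    rw [q, card_top, ← h.oz] at this
    exact this (orderOf_dvd_natCard _)
  have c : z ∈ center G := mem_center_iff.2 fun g => by
    have := Blk.zstar ⟨h.oz, fun g i => n g (mem_C1'.2 i)⟩ g
    rw [hO, mem_bot, mul_inv_eq_one, mul_inv_eq_iff_eq_mul] at this
    exact this.symm
  rcases (inferInstance : (center G).Normal).eq_bot_or_eq_top with q | q
  · exact ne_one_of_ord2 h.oz (mem_bot.1 (q ▸ c))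
  · exact hG ⟨⟨fun a b => mem_center_iff.1 (q ▸ mem_top b) a⟩⟩

theorem St.top [IsSimpleGroup G] (hG : ¬ IsMulCommutative G) (h : St z L π) (hb : centralizerPPrimeCore 2 z = ⊥) :
    C1[z] = L := by
  have : Fact (Nat.Prime 2) := ⟨Nat.prime_two⟩
  obtain ⟨g, j, k⟩ := h.exists_pr hG
  have p := h.pr j k
  let Z : Subgroup C[L] := zpowers ⟨z, h.zK⟩
  have zc : ∀ w ∈ Z, ∀ y : C[L], Commute y w := by
    rintro _ ⟨n, rfl⟩ y
    exact (show Commute y ⟨z, h.zK⟩ from Subtype.ext (mem_C1.1 (h.KC y.2))).zpow_right n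
  have zn : Z.Normal := ⟨fun w i y => by rwa [(zc w i y).eq, mul_inv_cancel_right]⟩
  have cz : Nat.card Z = 2 := by rw [Nat.card_zpowers, orderOf_mk, h.oz]
  have z2 : ∀ w ∈ Z, w ^ 2 = 1 := fun w i => orderOf_dvd_iff_pow_eq_one.1 (cz ▸ orderOf_dvd_natCard Z i)
  have iz : ¬ 2 ∣ Z.index := fun i => by
    obtain ⟨w, hw⟩ := exists_prime_orderOf_dvd_card' 2 i
    obtain ⟨w, rfl⟩ := QuotientGroup.mk_surjective w
    have q : w * w ∈ Z := (QuotientGroup.eq_one_iff _).1 (sq_of_ord2 hw)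
    refine ne_one_of_ord2 hw ((QuotientGroup.eq_one_iff _).2 ?_)
    rcases p.two (n := 2) w.2 (by
      have := congrArg Subtype.val (z2 _ q)
      rwa [← pow_two, ← pow_mul] at this) with e | e
    · rw [show w = 1 from Subtype.ext e]; exact one_mem _
    · rw [show w = ⟨z, h.zK⟩ from Subtype.ext e]; exact mem_zpowers _
  obtain ⟨H, hH⟩ := exists_right_complement'_of_coprime (N := Z) (cz ▸ (Nat.Prime.coprime_iff_not_dvd Nat.prime_two).2 iz)
  have oH : Odd (Nat.card H) := by rw [← hH.symm.index_eq_card]; exact Nat.odd_iff.2 (by omega)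
  have ex : ∀ y : C[L], ∃ w ∈ Z, ∃ v ∈ H, w * v = y := fun y => by
    obtain ⟨⟨w, v⟩, e⟩ := hH.2 y
    exact ⟨w, w.2, v, v.2, e⟩
  have H0 : H.map (C[L]).subtype ≤ ⊥ := hb ▸ PLoc.le_pPrimeCoreOf (p := 2) ((map_subtype_le H).trans h.KC)
    (le_N_iff.2 (by
      rintro c hc _ ⟨v, hv, rfl⟩
      obtain ⟨w, wZ, v', hv', e⟩ := ex ⟨_, conj_C (h.nL hc) v.2⟩
      have q : ∀ v ∈ H, v ^ Nat.card H = 1 := fun v i => orderOf_dvd_iff_pow_eq_one.1 (orderOf_dvd_natCard H i)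
      have r : (w * v') ^ Nat.card H = 1 := by
        rw [e]; exact Subtype.ext (by rw [coe_pow, conj_pow, ← coe_pow, q v hv]; simp)
      obtain ⟨m, hm⟩ := oH
      rw [(zc w wZ v').symm.mul_pow, q v' hv', mul_one, hm, pow_succ, pow_mul, z2 w wZ, one_pow, one_mul] at r
      rw [r, one_mul] at e
      exact ⟨v', hv', congrArg Subtype.val e⟩))
    (by rw [card_map_of_injective (subtype_injective _)]; exact Nat.coprime_two_right.2 oH)
  refine le_antisymm (fun x i => ?_) h.LC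
  obtain ⟨a, aL, e⟩ := h.sur (π x)
  obtain ⟨_, ⟨n, rfl⟩, v, hv, q⟩ := ex ⟨_, h.eqK (h.LC aL) i e⟩
  rw [← mul_inv_cancel_left a x, ← show _ = a⁻¹ * x from congrArg Subtype.val q, coe_mul,
    show (v : G) = 1 from mem_bot.1 (H0 ⟨v, hv, rfl⟩), mul_one]
  exact mul_mem aL (zpow_mem h.zL n)

/-- the reduction of S1733 to the hypotheses of S1678 -/
theorem reduce [IsSimpleGroup G] (hG : ¬ IsMulCommutative G)
    (hbal : ∀ t : G, orderOf t = 2 → centralizerPPrimeCore 2 t = ⊥) (hL : IsStandardSubgroup L)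
    {F : Type*} [Field F] [Fintype F] (hF : Fintype.card F = 2)
    (hLX : Nat.card (center L) = 2 ∧ Nonempty (L ⧸ center L ≃* PSp 3 F)) :
    oddCore G = ⊥ ∧ center G = ⊥ ∧ ∃ t : G, orderOf t = 2 ∧ IsNonsplitDoubleCover C1[t] Sp := by
  obtain ⟨h1, ⟨e⟩⟩ := hLX
  obtain ⟨f⟩ := psp hF
  obtain ⟨z, π, h⟩ := exists_st hL h1 (e.trans f)
  have : Fact (Nat.Prime 2) := ⟨Nat.prime_two⟩
  refine ⟨?_, ?_, z, h.oz, ?_⟩
  · refine (inferInstance : (pPrimeCore 2 G).Normal).eq_bot_or_eq_top.resolve_right fun q => ?_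
    have := Core.not_dvd_card_pPrimeCore (G := G) 2
    rw [q, card_top, ← h.oz] at this
    exact this (orderOf_dvd_natCard _)
  · exact (inferInstance : (center G).Normal).eq_bot_or_eq_top.resolve_right fun q =>
      hG ⟨⟨fun a b => mem_center_iff.1 (q ▸ mem_top b) a⟩⟩
  · rw [h.top hG (hbal z h.oz)]
    refine ⟨h1, ⟨e.trans f⟩, fun K hK => ?_⟩
    have i : K.index = 2 := hK.index_eq_card.trans h1
    have : commutator L ≤ K := commutator_le.2 fun a _ b _ => by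
      simp only [commutatorElement_def, mul_mem_iff_of_index_two i, inv_mem_iff]; tauto
    rw [hL.1.1.commutator_eq_top, top_le_iff] at this
    simp [this] at i

end Cfsg.Agent.S6
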