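import Mathlib
/-! Bit codes for `6 × 6` matrices over the field with two elements and for `Sp₆(2)`. -/
set_option autoImplicit false

namespace Cfsg.Agent.S6
open Matrix

abbrev I := Fin 3 ⊕ Fin 3
abbrev Mt := Matrix I I (ZMod 2)
abbrev Sp := Matrix.symplecticGroup (Fin 3) (ZMod 2)

/-- position of a basis index -/
def ix : I → ℕ
  | .inl i => i.1
  | .inr i => 5 - i.1

/-- a matrix given by its six columns -/
structure M where
  c0 : ℕ
  c1 : ℕ
  c2 : ℕ
  c3 : ℕ
  c4 : ℕ
  c5 : ℕ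

def bt (b : Bool) : ZMod 2 := bif b then 1 else 0
def vec (c : ℕ) : I → ZMod 2 := fun i => bt (c.testBit (ix i))
def M.col (m : M) : ℕ → ℕ
  | 0 => m.c0
  | 1 => m.c1
  | 2 => m.c2
  | 3 => m.c3
  | 4 => m.c4
  | _ => m.c5
def ev (m : M) : Mt := Matrix.of fun i j => vec (m.col (ix j)) i
def sel (b : Bool) (c : ℕ) : ℕ := bif b then c else 0
def app (m : M) (v : ℕ) : ℕ :=
  sel (v.testBit 0) m.c0 ^^^ (sel (v.testBit 1) m.c1 ^^^ (sel (v.testBit 2) m.c2 ^^^ (sel (v.testBit 3) m.c3 ^^^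
    (sel (v.testBit 4) m.c4 ^^^ sel (v.testBit 5) m.c5))))
def mul (a b : M) : M := ⟨app a b.c0, app a b.c1, app a b.c2, app a b.c3, app a b.c4, app a b.c5⟩
def add (a b : M) : M := ⟨a.c0 ^^^ b.c0, a.c1 ^^^ b.c1, a.c2 ^^^ b.c2, a.c3 ^^^ b.c3, a.c4 ^^^ b.c4, a.c5 ^^^ b.c5⟩
def one : M := ⟨1, 2, 4, 8, 16, 32⟩
def zero : M := ⟨0, 0, 0, 0, 0, 0⟩
def dec (n : ℕ) : M := ⟨n % 64, n / 64 % 64, n / 4096 % 64, n / 262144 % 64, n / 16777216 % 64, n / 1073741824 % 64⟩
def e64 (a b : ℕ) : Bool := Nat.beq (a % 64) (b % 64)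
def eqv (a b : M) : Bool :=
  e64 a.c0 b.c0 && (e64 a.c1 b.c1 && (e64 a.c2 b.c2 && (e64 a.c3 b.c3 && (e64 a.c4 b.c4 && e64 a.c5 b.c5))))
def bf (u v : ℕ) : Bool :=
  ((u.testBit 0 && v.testBit 5) ^^ ((u.testBit 1 && v.testBit 4) ^^ (u.testBit 2 && v.testBit 3))) ^^
    ((u.testBit 5 && v.testBit 0) ^^ ((u.testBit 4 && v.testBit 1) ^^ (u.testBit 3 && v.testBit 2)))
def sp (m : M) : Bool :=
  bf m.c0 m.c5 && (bf m.c1 m.c4 && (bf m.c2 m.c3 && (!bf m.c0 m.c1 && (!bf m.c0 m.c2 && (!bf m.c0 m.c3 &&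
    (!bf m.c0 m.c4 && (!bf m.c1 m.c2 && (!bf m.c1 m.c3 && (!bf m.c1 m.c5 && (!bf m.c2 m.c4 && (!bf m.c2 m.c5 &&
    (!bf m.c3 m.c4 && (!bf m.c3 m.c5 && !bf m.c4 m.c5)))))))))))))
def com (a b : M) : Bool := eqv (mul a b) (mul b a)
def cub (a : M) : Bool := eqv (mul a (mul a a)) one

theorem bt_xor (a b : Bool) : bt (a ^^ b) = bt a + bt b := by cases a <;> cases b <;> decide
theorem bt_and (a b : Bool) : bt (a && b) = bt a * bt b := by cases a <;> cases b <;> decide
theorem bt_inj {a b : Bool} : bt a = bt b ↔ a = b := by cases a <;> cases b <;> decide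

theorem vec_xor (a b : ℕ) : vec (a ^^^ b) = vec a + vec b := by
  funext i; simp only [vec, Nat.testBit_xor, bt_xor, Pi.add_apply]

theorem vec_sel (b : Bool) (c : ℕ) (i : I) : vec (sel b c) i = vec c i * bt b := by
  cases b <;> simp [sel, vec, bt]

theorem sumI (f : I → ZMod 2) : ∑ i, f i = f (.inl 0) + (f (.inl 1) + (f (.inl 2) + (f (.inr 2) + (f (.inr 1) + f (.inr 0))))) := by
  simp only [Fintype.sum_sum_type, Fin.sum_univ_three]; ring

theorem vec_app (m : M) (v : ℕ) : vec (app m v) = ev m *ᵥ vec v := by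
  funext i
  simp only [app, vec_xor, Pi.add_apply, vec_sel, mulVec, dotProduct, sumI]
  rfl

theorem allI {p : I → Prop} (h0 : p (.inl 0)) (h1 : p (.inl 1)) (h2 : p (.inl 2)) (h3 : p (.inr 2)) (h4 : p (.inr 1))
    (h5 : p (.inr 0)) (i : I) : p i := by
  rcases i with i | i <;> fin_cases i <;> assumption

theorem ev_mul (a b : M) : ev (mul a b) = ev a * ev b := by
  ext i j
  have : (mul a b).col (ix j) = app a (b.col (ix j)) := by revert j; apply allI <;> rfl
  rw [ev, of_apply, this, vec_app]; rfl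

theorem ev_add (a b : M) : ev (add a b) = ev a + ev b := by
  ext i j
  have : (add a b).col (ix j) = a.col (ix j) ^^^ b.col (ix j) := by revert j; apply allI <;> rfl
  rw [ev, of_apply, this, vec_xor]; rfl

theorem ev_one : ev one = 1 := by decide +kernel
theorem ev_zero : ev zero = 0 := by decide +kernel

theorem e64_iff {a b : ℕ} : e64 a b = true ↔ vec a = vec b := by
  rw [e64, Nat.beq_eq]
  have ht : ∀ (c k : ℕ), k < 6 → (c % 64).testBit k = c.testBit k := fun c k hk => by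
    rw [show 64 = 2 ^ 6 from rfl, Nat.testBit_mod_two_pow]; simp [hk]
  constructor
  · intro h
    funext i
    have : ix i < 6 := by revert i; decide
    rw [vec, vec, ← ht a _ this, h, ht b _ this]
  · intro h
    refine Nat.eq_of_testBit_eq fun k => ?_
    by_cases hk : k < 6
    · obtain ⟨i, rfl⟩ : ∃ i, ix i = k := by revert k; decide
      rw [ht _ _ hk, ht _ _ hk]; exact bt_inj.1 (congrFun h i)
    · rw [Nat.testBit_eq_false_of_lt, Nat.testBit_eq_false_of_lt] <;>
        exact (Nat.mod_lt _ (by norm_num)).trans_le (Nat.pow_le_pow_right (n := 2) (by norm_num) (not_lt.1 hk))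

theorem eqv_iff {a b : M} : eqv a b = true ↔ ev a = ev b := by
  simp only [eqv, Bool.and_eq_true, e64_iff]
  constructor
  · rintro ⟨h0, h1, h2, h3, h4, h5⟩
    ext i j
    revert j
    apply allI
    exacts [congrFun h0 i, congrFun h1 i, congrFun h2 i, congrFun h3 i, congrFun h4 i, congrFun h5 i]
  · intro h
    have := fun j => funext fun i => congrFun (congrFun h i) j
    exact ⟨this (.inl 0), this (.inl 1), this (.inl 2), this (.inr 2), this (.inr 1), this (.inr 0)⟩

theorem bt_bf (u v : ℕ) : bt (bf u v) = vec u ⬝ᵥ (J (Fin 3) (ZMod 2) *ᵥ vec v) := by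
  simp only [bf, bt_xor, bt_and, dotProduct, mulVec, sumI, J, fromBlocks_apply₁₁, fromBlocks_apply₁₂, fromBlocks_apply₂₁,
    fromBlocks_apply₂₂, vec, ix]
  simp [one_apply, CharTwo.neg_eq]
  ring

theorem bf_comm (u v : ℕ) : bf u v = bf v u := by
  simp only [bf, Bool.and_comm (u.testBit _)]
  generalize (v.testBit 5 && u.testBit 0) = a, (v.testBit 4 && u.testBit 1) = b, (v.testBit 3 && u.testBit 2) = c,
    (v.testBit 0 && u.testBit 5) = d, (v.testBit 1 && u.testBit 4) = e, (v.testBit 2 && u.testBit 3) = f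
  revert a b c d e f; decide

theorem bf_self (u : ℕ) : bf u u = false := by
  simp only [bf, Bool.and_comm (u.testBit 5), Bool.and_comm (u.testBit 4), Bool.and_comm (u.testBit 3), Bool.xor_self]

theorem sp_iff {m : M} : sp m = true ↔ ev m ∈ Sp := by
  have e : ∀ i j, ((ev m)ᵀ * J (Fin 3) (ZMod 2) * ev m) i j = bt (bf (m.col (ix i)) (m.col (ix j))) := fun i j => by
    rw [bt_bf, Matrix.mul_assoc]; rfl
  have hJ : ∀ i j, J (Fin 3) (ZMod 2) i j = bt (Nat.beq (ix i + ix j) 5) := fun i j =>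
    congrFun (congrFun (show J (Fin 3) (ZMod 2) = of fun i j => bt (Nat.beq (ix i + ix j) 5) by decide +kernel) i) j
  rw [SymplecticGroup.mem_iff', ← Matrix.ext_iff]
  simp only [e, hJ, bt_inj, sp, Bool.and_eq_true, Bool.not_eq_true']
  constructor
  · rintro ⟨h1, h2, h3, h4, h5, h6, h7, h8, h9, h10, h11, h12, h13, h14, h15⟩
    apply allI <;> apply allI <;> first | exact bf_self _ | assumption | (rw [bf_comm]; assumption)
  · intro h
    exact ⟨h (.inl 0) (.inr 0), h (.inl 1) (.inr 1), h (.inl 2) (.inr 2), h (.inl 0) (.inl 1), h (.inl 0) (.inl 2),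
      h (.inl 0) (.inr 2), h (.inl 0) (.inr 1), h (.inl 1) (.inl 2), h (.inl 1) (.inr 2), h (.inl 1) (.inr 0),
      h (.inl 2) (.inr 1), h (.inl 2) (.inr 0), h (.inr 2) (.inr 1), h (.inr 2) (.inr 0), h (.inr 1) (.inr 0)⟩

theorem ex_vec (v : I → ZMod 2) : ∃ c < 64, vec c = v := by
  revert v; decide +kernel

open Classical in
/-- the group element with a given code -/
noncomputable def tS (m : M) : Sp := if h : ev m ∈ Sp then ⟨ev m, h⟩ else 1

variable {a b m : M}

theorem coe_tS (h : sp m = true) : (tS m : Mt) = ev m := by rw [tS, dif_pos (sp_iff.1 h)]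
theorem sp_mul (ha : sp a = true) (hb : sp b = true) : sp (mul a b) = true :=
  sp_iff.2 (ev_mul a b ▸ mul_mem (sp_iff.1 ha) (sp_iff.1 hb))
theorem sp_one : sp one = true := rfl
theorem tS_mul (ha : sp a = true) (hb : sp b = true) : tS (mul a b) = tS a * tS b :=
  Subtype.ext (by rw [coe_tS (sp_mul ha hb), Submonoid.coe_mul, coe_tS ha, coe_tS hb, ev_mul])
theorem tS_one : tS one = 1 := Subtype.ext (by rw [coe_tS sp_one, ev_one]; rfl)
theorem tS_eq (ha : sp a = true) (hb : sp b = true) : tS a = tS b ↔ eqv a b = true := by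
  rw [eqv_iff, Subtype.ext_iff, coe_tS ha, coe_tS hb]
theorem tS_com (ha : sp a = true) (hb : sp b = true) : tS a * tS b = tS b * tS a ↔ com a b = true := by
  rw [← tS_mul ha hb, ← tS_mul hb ha, tS_eq (sp_mul ha hb) (sp_mul hb ha), com]
theorem tS_cub (ha : sp a = true) : tS a ^ 3 = 1 ↔ cub a = true := by
  rw [pow_three, ← tS_mul ha ha, ← tS_mul ha (sp_mul ha ha), ← tS_one, tS_eq (sp_mul ha (sp_mul ha ha)) sp_one, cub]
theorem tS_sq (ha : sp a = true) (hb : sp b = true) : tS a * tS a = tS b ↔ eqv (mul a a) b = true := by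
  rw [← tS_mul ha ha, tS_eq (sp_mul ha ha) hb]
theorem eq_tS {s : Sp} (h : (s : Mt) = ev m) : sp m = true ∧ s = tS m :=
  have := sp_iff.2 (h ▸ s.2)
  ⟨this, Subtype.ext (by rw [coe_tS this, h])⟩

/-! ### Commutants -/

def wd (G : List M) : List ℕ → M
  | [] => one
  | i :: w => mul (G.getD i one) (wd G w)
def alg (G : List M) : List (List ℕ) → M
  | [] => zero
  | w :: ws => add (wd G w) (alg G ws)
abbrev Cert := List (List (List ℕ) × List (List ℕ))
def ccol (G : List M) (c : Cert) (u v k : ℕ) : ℕ :=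
  app (alg G (c.getD k ([], [])).1) u ^^^ app (alg G (c.getD k ([], [])).2) v
def cand (G : List M) (c : Cert) (u v : ℕ) : M :=
  ⟨ccol G c u v 0, ccol G c u v 1, ccol G c u v 2, ccol G c u v 3, ccol G c u v 4, ccol G c u v 5⟩
def certOK (G : List M) (c : Cert) (p q : ℕ) : Bool := eqv (cand G c p q) one

theorem com_wd {G : List M} {l : Mt} (h : ∀ g ∈ G, Commute l (ev g)) (w : List ℕ) : Commute l (ev (wd G w)) := by
  induction w with
  | nil => rw [wd, ev_one]; exact Commute.one_right _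
  | cons i w ih =>
    rw [wd, ev_mul]
    refine Commute.mul_right ?_ ih
    rcases lt_or_ge i G.length with j | j
    · rw [List.getD_eq_getElem _ _ j]; exact h _ (List.getElem_mem j)
    · rw [List.getD_eq_default _ _ j, ev_one]; exact Commute.one_right _

theorem com_alg {G : List M} {l : Mt} (h : ∀ g ∈ G, Commute l (ev g)) (ws : List (List ℕ)) :
    Commute l (ev (alg G ws)) := by
  induction ws with
  | nil => rw [alg, ev_zero]; exact Commute.zero_right _
  | cons w ws ih => rw [alg, ev_add]; exact (com_wd h w).add_right ih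

theorem commutant {G : List M} {l : Mt} (h : ∀ g ∈ G, Commute l (ev g)) {c : Cert} {p q : ℕ}
    (ok : certOK G c p q = true) : ∃ u < 64, ∃ v < 64, vec v = l *ᵥ vec q ∧ l = ev (cand G c u v) := by
  obtain ⟨u, hu, eu⟩ := ex_vec (l *ᵥ vec p)
  obtain ⟨v, hv, ev'⟩ := ex_vec (l *ᵥ vec q)
  refine ⟨u, hu, v, hv, ev', ?_⟩
  have hc : ∀ u v j, (cand G c u v).col (ix j) = ccol G c u v (ix j) := fun u v => by apply allI <;> rfl
  have k : ∀ j, vec (ccol G c u v j) = l *ᵥ vec (ccol G c p q j) := fun j => by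
    rw [ccol, ccol, vec_xor, vec_xor, vec_app, vec_app, vec_app, vec_app, mulVec_add, mulVec_mulVec, mulVec_mulVec,
      (com_alg h _).eq, (com_alg h _).eq, ← mulVec_mulVec, ← mulVec_mulVec, eu, ev']
  rw [← mul_one l, ← ev_one, ← eqv_iff.1 ok]
  ext i j
  rw [ev, ev, of_apply, hc, k, ← hc]; rfl

end Cfsg.Agent.S6
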