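import Cfsg.Agent.S6.Facts
import Cfsg.Agent.S0111
/-! In a perfect double cover of `Sp₆(2)` products of two commuting transvections lift to elements of order 4. -/
set_option autoImplicit false

namespace Cfsg.Agent.S6
open Subgroup

def cjk (ρ s t : M) : Bool := sp ρ && (sp s && (sp t && eqv (mul ρ s) (mul t ρ)))

theorem cjk_spec {ρ s t : M} (h : cjk ρ s t = true) : tS ρ * tS s * (tS ρ)⁻¹ = tS t := by
  simp only [cjk, Bool.and_eq_true] at h
  obtain ⟨a, b, c, d⟩ := h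
  rwa [mul_inv_eq_iff_eq_mul, ← tS_mul a b, ← tS_mul c a, tS_eq (sp_mul a b) (sp_mul c a)]

theorem c2_sq {s : Sp} (h : IsC2 s) : s * s = 1 := by
  obtain ⟨ρ, rfl⟩ := h
  rw [conj_mul, (tS_sq (sp_rp 1 (by decide)) sp_one).2 (by decide +kernel), tS_one]; simp

variable {L : Type*} [Group L] {π : L →* Sp} {z : L} (hs : Function.Surjective π) (zz : z * z = 1)
  (zc : ∀ g, g * z = z * g) (hk : ∀ a, π a = 1 → a = 1 ∨ a = z)
include hs zz zc hk

theorem sq_conj {a b : L} {ρ : Sp} (e : ρ * π a * ρ⁻¹ = π b) (h : π a * π a = 1) : b * b = a * a := by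
  obtain ⟨g, rfl⟩ := hs ρ
  have c : ∀ y, y = 1 ∨ y = z → ∀ g, g * y = y * g := by rintro _ (rfl | rfl) g; exacts [by simp, zc g]
  have i := hk ((g * a * g⁻¹)⁻¹ * b) (by rw [map_mul, map_inv, map_mul, map_mul, map_inv, e, inv_mul_cancel])
  have j := hk (a * a) (by rwa [map_mul])
  rw [← mul_inv_cancel_left (g * a * g⁻¹) b]
  generalize (g * a * g⁻¹)⁻¹ * b = y at i
  have yy : y * y = 1 := by rcases i with rfl | rfl; exacts [mul_one 1, zz]
  rw [mul_assoc _ y, ← mul_assoc y, ← c y i, mul_assoc _ y, yy, mul_one, conj_mul, c _ j g, mul_inv_cancel_right]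

theorem all_inv (hq : ∀ b, IsC2 (π b) → b * b = 1) (b : L) (hb : π b * π b = 1) : b * b = 1 := by
  choose A hA using hs
  have sc := fun {a b : L} {ρ : Sp} => sq_conj (fun s => ⟨A s, hA s⟩) zz zc hk (a := a) (b := b) (ρ := ρ)
  have q4 : tS t4 * tS t4 = 1 := tS_one ▸ (tS_sq rfl sp_one).2 rfl
  obtain ⟨ε, he⟩ : ∃ ε, ε = A (tS t4) * A (tS t4) := ⟨_, rfl⟩
  have e0 : ε = 1 ∨ ε = z := hk _ (by rw [he, map_mul, hA, q4])
  have ee : ε * ε = 1 := by rcases e0 with rfl | rfl; exacts [mul_one 1, zz]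
  have k : ∀ {ρ t}, cjk ρ t4 t = true → A (tS t) ^ 2 = ε := fun i => by
    rw [pow_two, he]; exact sc (by rw [hA, hA, cjk_spec i]) (by rw [hA, q4])
  have k2 := k (ρ := ⟨1, 4, 2, 22, 14, 32⟩) (t := t2) (by decide +kernel)
  have k4 := k (ρ := one) (t := t4) (by decide +kernel)
  have k5 := k (ρ := ⟨1, 2, 5, 8, 16, 41⟩) (t := t5) (by decide +kernel)
  have k6 := k (ρ := ⟨1, 2, 6, 8, 26, 32⟩) (t := t6) (by decide +kernel)
  have k7 := k (ρ := ⟨1, 2, 7, 8, 27, 43⟩) (t := t7) (by decide +kernel)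
  have c : ∀ {s t}, A (tS s) ^ 2 = ε → A (tS t) ^ 2 = ε → ∀ ρ, (sp s && (sp t && cjk ρ (rp 1) (mul s t))) = true →
      Commute (A (tS s)) (A (tS t)) := fun {s t} i j ρ l => by
    simp only [Bool.and_eq_true] at l
    have := hq (A (tS s) * A (tS t)) ⟨_, by rw [map_mul, hA, hA, cjk_spec l.2.2, tS_mul l.1 l.2.1]⟩
    nth_rw 1 [← ee, ← i] at this
    rw [← j, pow_two, pow_two, mul_assoc, mul_assoc, mul_right_inj, ← mul_assoc, ← mul_assoc, mul_left_inj] at this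
    exact this.symm
  have c24 := c k2 k4 one (by decide +kernel)
  have c26 := c k2 k6 ⟨1, 2, 6, 8, 26, 32⟩ (by decide +kernel)
  have c27 := c k2 k7 ⟨1, 2, 7, 8, 27, 43⟩ (by decide +kernel)
  have c45 := c k4 k5 ⟨6, 5, 4, 63, 39, 23⟩ (by decide +kernel)
  have c46 := c k4 k6 ⟨1, 6, 4, 28, 16, 32⟩ (by decide +kernel)
  have c47 := c k4 k7 ⟨1, 7, 4, 29, 16, 53⟩ (by decide +kernel)
  have c56 := c k5 k6 ⟨1, 6, 5, 28, 16, 61⟩ (by decide +kernel)
  have c57 := c k5 k7 ⟨1, 7, 5, 29, 16, 41⟩ (by decide +kernel)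
  have c67 := c k6 k7 ⟨4, 7, 6, 53, 34, 29⟩ (by decide +kernel)
  have s1 : (A (tS t2) * (A (tS t4) * A (tS t6))) ^ 2 = ε := by
    rw [(c24.mul_right c26).mul_pow, c46.mul_pow, k2, k4, k6, ee, mul_one]
  have s2 : (A (tS t4) * (A (tS t5) * (A (tS t6) * A (tS t7)))) ^ 2 = 1 := by
    rw [(c45.mul_right (c46.mul_right c47)).mul_pow, (c56.mul_right c57).mul_pow, c67.mul_pow, k4, k5, k6, k7, ee,
      mul_one, ee]
  have s3 : (A (tS t2) * (A (tS t4) * A (tS t7))) ^ 2 = ε := by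
    rw [(c24.mul_right c27).mul_pow, c47.mul_pow, k2, k4, k7, ee, mul_one]
  have r : ∀ i, i = 0 ∨ i = 1 ∨ i = 2 ∨ i = 5 → π (A (tS (rp i))) * π (A (tS (rp i))) = 1 := fun i hi => by
    rw [hA, (tS_sq (sp_rp i (by omega)) sp_one).2 ((sq_rp i (by omega)).2 hi), tS_one]
  rw [pow_two] at s1 s2 s3
  rw [sc (a := A (tS (rp 2))) (by
    rw [hA, map_mul, map_mul, hA, hA, hA, ← tS_mul (a := t4) (b := t6) rfl rfl,
      ← tS_mul (a := t2) (b := mul t4 t6) rfl rfl]
    exact cjk_spec (ρ := one) (by decide +kernel)) (r 2 (by omega))] at s1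
  rw [sc (a := A (tS (rp 2))) (by
    rw [hA, map_mul, map_mul, map_mul, hA, hA, hA, hA, ← tS_mul (a := t6) (b := t7) rfl rfl,
      ← tS_mul (a := t5) (b := mul t6 t7) rfl rfl, ← tS_mul (a := t4) (b := mul t5 (mul t6 t7)) rfl rfl]
    exact cjk_spec (ρ := ⟨4, 2, 1, 37, 16, 13⟩) (by decide +kernel)) (r 2 (by omega))] at s2
  rw [sc (a := A (tS (rp 5))) (by
    rw [hA, map_mul, map_mul, hA, hA, hA, ← tS_mul (a := t4) (b := t7) rfl rfl,
      ← tS_mul (a := t2) (b := mul t4 t7) rfl rfl]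
    exact cjk_spec (ρ := ⟨7, 2, 4, 46, 54, 32⟩) (by decide +kernel)) (r 5 (by omega))] at s3
  have e1 : ε = 1 := s1.symm.trans s2
  by_cases b1 : π b = 1
  · rcases hk b b1 with rfl | rfl; exacts [mul_one 1, zz]
  obtain ⟨i, hi, ρ, e⟩ := cls (s := π b) (by rw [show 4 = 2 * 2 from rfl, pow_mul, pow_two (π b), hb, one_pow]) b1
  have hi' := (sq_rp i hi).1 ((tS_sq (sp_rp i hi) sp_one).1 (by
    rw [← e, conj_mul] at hb; rw [tS_one]; simpa using hb))
  rw [sc (a := A (tS (rp i))) (by rw [hA, e]) (r i hi')]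
  rcases hi' with rfl | rfl | rfl | rfl
  exacts [he.symm.trans e1, hq _ ⟨1, by simp [hA]⟩, s2, s3.trans e1]

theorem dbl [Finite L] [hp : Group.IsPerfect L] (z1 : z ≠ 1) (pz : π z = 1) (a : L) (ha : IsC2 (π a)) : a * a = z := by
  have : Fact (Nat.Prime 2) := ⟨Nat.prime_two⟩
  refine (hk _ (by rw [map_mul, c2_sq ha])).resolve_left fun a2 => ?_
  have hall := all_inv hs zz zc hk fun b ⟨σ, hb⟩ => by
    obtain ⟨ρ, e⟩ := ha
    rw [← a2]
    exact sq_conj hs zz zc hk (ρ := σ * ρ⁻¹) (by rw [← e, ← hb]; group) (c2_sq ⟨ρ, e⟩)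
  have q : ∀ {b : L} {s : M}, π b = tS s → (sp s && eqv (mul s s) one) = true → b * b = 1 := fun {b s} e i => by
    rw [Bool.and_eq_true] at i
    exact hall b (by rw [e, (tS_sq i.1 sp_one).2 i.2, tS_one])
  have cm : ∀ {b c : L} {s t : M}, π b = tS s → π c = tS t → (sp s && (sp t && (eqv (mul s s) one &&
      (eqv (mul t t) one && eqv (mul (mul s t) (mul s t)) one)))) = true → b * c * b⁻¹ = c := fun {b c s t} e f i => by
    simp only [Bool.and_eq_true] at i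
    obtain ⟨i1, i2, i3, i4, i5⟩ := i
    have j := q (b := b * c) (s := mul s t) (by rw [map_mul, e, f, tS_mul i1 i2]) (by simp [sp_mul i1 i2, i5])
    have k := inv_eq_of_mul_eq_one_right j
    rw [mul_inv_rev, inv_eq_of_mul_eq_one_right (q f (by simp [i2, i4])),
      inv_eq_of_mul_eq_one_right (q e (by simp [i1, i3]))] at k
    rw [← k, mul_inv_cancel_right]
  have cn : ∀ {b c : L} {s t u : M}, π b = tS s → π c = tS t → cjk s t u = true → π (b * c * b⁻¹) = tS u :=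
    fun e f i => by rw [map_mul, map_mul, map_inv, e, f, cjk_spec i]
  obtain ⟨x, hx⟩ := hs (tS gx)
  obtain ⟨y, hy⟩ := hs (tS gy)
  obtain ⟨b2, h2⟩ := hs (tS t2)
  obtain ⟨b4, h4⟩ := hs (tS t4)
  have h3 := cn (u := t3) hx h2 (by decide +kernel)
  have h6 := cn (u := t6) hy h4 (by decide +kernel)
  have h7 := cn (u := t7) hx h6 (by decide +kernel)
  have h5 := cn (u := t5) hy h7 (by decide +kernel)
  have hw : π (x * y * (x * y)) = tS gw := by
    rw [map_mul, map_mul, hx, hy, ← tS_mul (a := gx) (b := gy) rfl rfl, tS_sq (a := mul gx gy) (b := gw) rfl rfl]; rfl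
  have xx := q hx rfl
  have yy := q hy rfl
  have dd : ∀ {g : L}, g * g = 1 → ∀ b, g * (g * b * g⁻¹) * g⁻¹ = b := fun {g} i b => by
    rw [show g * (g * b * g⁻¹) * g⁻¹ = g * g * b * (g * g)⁻¹ by group, i]; simp
  generalize e3 : x * b2 * x⁻¹ = b3 at h3
  generalize e6 : y * b4 * y⁻¹ = b6 at h6 h7 h5
  generalize e7 : x * b6 * x⁻¹ = b7 at h7 h5
  generalize e5 : y * b7 * y⁻¹ = b5 at h5
  have nx : ∀ h ∈ [b7, b6, b5, b4, b3, b2], x * h * x⁻¹ ∈ cl [b7, b6, b5, b4, b3, b2] := by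
    simp only [List.forall_mem_cons]
    refine ⟨?_, ?_, ?_, ?_, ?_, ?_, by simp⟩ <;> apply mem_cl
    · rw [← e7, dd xx]; simp
    · simp [e7]
    · simp [cm hx h5 rfl]
    · simp [cm hx h4 rfl]
    · rw [← e3, dd xx]; simp
    · simp [e3]
  have ny : ∀ h ∈ [b7, b6, b5, b4, b3, b2], y * h * y⁻¹ ∈ cl [b7, b6, b5, b4, b3, b2] := by
    simp only [List.forall_mem_cons]
    refine ⟨?_, ?_, ?_, ?_, ?_, ?_, by simp⟩ <;> apply mem_cl
    · simp [e5]
    · rw [← e6, dd yy]; simp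
    · rw [← e5, dd yy]; simp
    · simp [e6]
    · simp [cm hy h3 rfl]
    · simp [cm hy h2 rfl]
  have o : ∀ {g : L} {l : List L}, g * g = 1 → g * g ∈ cl l := fun i => i ▸ one_mem _
  have m : ∀ {g h : L} {l : List L}, g * h * g⁻¹ = h → h ∈ l → g * h * g⁻¹ ∈ cl l := fun i j => i.symm ▸ mem_cl j
  have T : TwL [y, x, x * y * (x * y), b7, b6, b5, b4, b3, b2] := by
    refine ⟨⟨⟨⟨⟨⟨⟨⟨⟨trivial, o (q h2 rfl), by simp⟩, o (q h3 rfl), ?_⟩, o (q h4 rfl), ?_⟩, o (q h5 rfl), ?_⟩,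
      o (q h6 rfl), ?_⟩, o (q h7 rfl), ?_⟩, o (q hw rfl), fun h i => ?_⟩, o xx, ?_⟩, o yy, ?_⟩
    · simp only [List.forall_mem_cons]
      exact ⟨m (cm h3 h2 rfl) (by simp), by simp⟩
    · simp only [List.forall_mem_cons]
      exact ⟨m (cm h4 h3 rfl) (by simp), m (cm h4 h2 rfl) (by simp), by simp⟩
    · simp only [List.forall_mem_cons]
      exact ⟨m (cm h5 h4 rfl) (by simp), m (cm h5 h3 rfl) (by simp), m (cm h5 h2 rfl) (by simp), by simp⟩
    · simp only [List.forall_mem_cons]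
      exact ⟨m (cm h6 h5 rfl) (by simp), m (cm h6 h4 rfl) (by simp), m (cm h6 h3 rfl) (by simp),
        m (cm h6 h2 rfl) (by simp), by simp⟩
    · simp only [List.forall_mem_cons]
      exact ⟨m (cm h7 h6 rfl) (by simp), m (cm h7 h5 rfl) (by simp), m (cm h7 h4 rfl) (by simp),
        m (cm h7 h3 rfl) (by simp), m (cm h7 h2 rfl) (by simp), by simp⟩
    · convert conj_cl nx _ (conj_cl ny _ (conj_cl nx _ (ny h i))) using 1; group
    · exact List.forall_mem_cons.2 ⟨m (cm hx hw rfl) (by simp), fun h i => cl_le _ _ (nx h i)⟩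
    · refine List.forall_mem_cons.2 ⟨?_, List.forall_mem_cons.2 ⟨m (cm hy hw rfl) (by simp),
        fun h i => cl_le _ _ (cl_le _ _ (ny h i))⟩⟩
      rw [inv_eq_of_mul_eq_one_right yy, show y * x * y = x * (x * y * (x * y)) by
        rw [← mul_assoc, ← mul_assoc, ← mul_assoc, xx, one_mul]]
      exact mul_mem (mem_cl (by simp)) (mem_cl (by simp))
  generalize hl : [y, x, x * y * (x * y), b7, b6, b5, b4, b3, b2] = l at T
  have e : l.map π = gU.map tS := by rw [← hl]; simp only [List.map, hx, hy, hw, h2, h3, h4, h5, h6, h7, gU]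
  have i4 : Ind (l.map π) := e ▸ (tw_spec gU_ok).2.2.2.1
  have zn : z ∉ cl l := fun i => z1 (inj_cl π T i4 z i pz)
  have T' : TwL (z :: l) := ⟨T, o zz, fun h i => m (by rw [← zc, mul_inv_cancel_right]) i⟩
  have hc : Nat.card (cl (z :: l)) = 2 ^ 10 := by rw [card_cl T' ⟨i4.of_map π, zn⟩, ← hl]; rfl
  have oz : orderOf z = 2 := orderOf_eq_prime (by rw [pow_two, zz]) z1
  have hL : Nat.card L = 2 * 1451520 := by
    rw [← π.ker.card_mul_index, index_ker, MonoidHom.range_eq_top.2 hs, card_top, card_Sp,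
      show π.ker = zpowers z from le_antisymm (fun a i => by
        rcases hk a i with rfl | rfl; exacts [one_mem _, mem_zpowers _]) (zpowers_le.2 pz), Nat.card_zpowers, oz]
  have hi : (cl (z :: l)).index = 2835 := by
    have := (cl (z :: l)).card_mul_index
    rw [hc, hL] at this; omega
  obtain ⟨M, -, m2, m3⟩ | ⟨g, k⟩ := S0111.result ((IsPGroup.of_card hc).toSylow (by rw [hi]; norm_num)) (cl l)
    (cl_le z l) (relIndex_cl T' zn) z oz (mem_cl List.mem_cons_self) zn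
  · refine m3 ((show commutator L ≤ M from commutator_le.2 fun a _ b _ => ?_) (hp.commutator_eq_top ▸ mem_top z))
    simp only [commutatorElement_def, mul_mem_iff_of_index_two m2, inv_mem_iff]; tauto
  · exact zn (by rwa [zc, mul_inv_cancel_right] at k)

end Cfsg.Agent.S6
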