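import Cfsg.Agent.S6.Tower
/-! Local facts about involutions and elements of order 4 of `Sp₆(2)`. -/
set_option autoImplicit false

namespace Cfsg.Agent.S6
open Subgroup

/-- products of two commuting transvections -/
def IsC2 (s : Sp) : Prop := ∃ ρ : Sp, ρ * tS (rp 1) * ρ⁻¹ = s

theorem IsC2.conj {s : Sp} (h : IsC2 s) (g : Sp) : IsC2 (g * s * g⁻¹) := by
  obtain ⟨ρ, rfl⟩ := h
  exact ⟨g * ρ, by group⟩

structure H3 (l r : Sp) : Prop where
  hl : l * l = 1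
  hr : r * r = 1
  l1 : l ≠ 1
  ne : l ≠ r
  c : l * r = r * l
  h1 : ∀ f : Sp, f ^ 3 = 1 → r * f = f * r → l * f = f * l
  h2 : ∀ f : Sp, f ^ 3 = 1 → r * l * f = f * (r * l) → l * f = f * l

theorem H3.map {l r : Sp} (h : H3 l r) (e : Sp ≃* Sp) : H3 (e l) (e r) :=
  ⟨by rw [← map_mul, h.hl, map_one], by rw [← map_mul, h.hr, map_one], by simpa using h.l1, by simpa using h.ne,
    by rw [← map_mul, h.c, map_mul], fun f a b => by
      obtain ⟨f, rfl⟩ := e.surjective f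
      rw [← map_mul, h.h1 f (e.injective (by rw [map_pow, a, map_one])) (e.injective (by rw [map_mul, b, map_mul])),
        map_mul], fun f a b => by
      obtain ⟨f, rfl⟩ := e.surjective f
      rw [← map_mul, h.h2 f (e.injective (by rw [map_pow, a, map_one]))
        (e.injective (by rw [map_mul, map_mul, b, map_mul, map_mul])), map_mul]⟩

def isC (Cj : List M) (m : M) : Bool := Cj.any fun ρ => sp ρ && eqv (mul ρ (rp 1)) (mul m ρ)
def okF (l : M) (F : List M) : Bool := F.all fun f => sp f && (cub f && com l f)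
def test3 (r : M) (F Wt Cj : List M) (l : M) : Bool :=
  !(sp l && (eqv (mul l l) one && (com l r && F.all (com l)))) || (eqv l one || (eqv l r ||
    (Wt.any (fun f => sp f && (cub f && (com (mul r l) f && !com l f))) || (isC Cj r && (isC Cj l && isC Cj (mul r l))))))
def chk3 (r : M) (F : List M) (c : Cert) (p q : ℕ) (Wt Cj : List M) : Bool :=
  okF r F && (certOK (r :: F) c p q && (List.range 64).all fun u => (List.range 64).all fun v =>
    test3 r F Wt Cj (cand (r :: F) c u v))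

theorem isC_spec {Cj : List M} {m : M} (hm : sp m = true) (h : isC Cj m = true) : IsC2 (tS m) := by
  simp only [isC, List.any_eq_true, Bool.and_eq_true] at h
  obtain ⟨ρ, -, i, j⟩ := h
  have k := sp_rp 1 (by decide)
  refine ⟨tS ρ, mul_inv_eq_iff_eq_mul.2 ?_⟩
  rwa [← tS_mul i k, ← tS_mul hm i, tS_eq (sp_mul i k) (sp_mul hm i)]

theorem com_ev {s : Sp} {g : M} (hg : sp g = true) (h : s * tS g = tS g * s) : Commute (s : Mt) (ev g) := by
  rw [← coe_tS hg]; exact congrArg Subtype.val h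

theorem chk3_spec {r : M} {F : List M} {c : Cert} {p q : ℕ} {Wt Cj : List M} (h : chk3 r F c p q Wt Cj = true)
    (sr : sp r = true) {l : Sp} (H : H3 l (tS r)) : IsC2 (tS r) ∧ IsC2 l ∧ IsC2 (tS r * l) := by
  simp only [chk3, okF, Bool.and_eq_true, List.all_eq_true, List.mem_range] at h
  obtain ⟨hF, hc, h⟩ := h
  have k : ∀ f ∈ F, l * tS f = tS f * l := fun f i =>
    H.h1 _ ((tS_cub (hF f i).1).2 (hF f i).2.1) ((tS_com sr (hF f i).1).2 (hF f i).2.2)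
  obtain ⟨u, hu, v, hv, -, e⟩ := commutant (l := (l : Mt)) (List.forall_mem_cons.2 ⟨com_ev sr H.c,
    fun f i => com_ev (hF f i).1 (k f i)⟩) hc
  obtain ⟨sl, rfl⟩ := eq_tS e
  have := h u hu v hv
  generalize cand (r :: F) c u v = m at *
  have p1 : (sp m && (eqv (mul m m) one && (com m r && F.all (com m)))) = true := by
    simp only [Bool.and_eq_true, List.all_eq_true]
    exact ⟨sl, (tS_sq sl sp_one).1 (tS_one ▸ H.hl), (tS_com sl sr).1 H.c, fun f i => (tS_com sl (hF f i).1).1 (k f i)⟩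
  simp only [test3, p1, Bool.not_true, Bool.false_or, Bool.or_eq_true, Bool.and_eq_true, List.any_eq_true,
    Bool.not_eq_true'] at this
  rcases this with i | i | ⟨f, -, a, b, c, d⟩ | ⟨a, b, c⟩
  · exact absurd (tS_one ▸ (tS_eq sl sp_one).2 i) H.l1
  · exact absurd ((tS_eq sl sr).2 i) H.ne
  · rw [(tS_com sl a).1 (H.h2 _ ((tS_cub a).2 b) (by
      rw [← tS_mul sr sl]; exact (tS_com (sp_mul sr sl) a).2 c))] at d
    cases d
  · exact ⟨isC_spec sr a, isC_spec sl b, by rw [← tS_mul sr sl]; exact isC_spec (sp_mul sr sl) c⟩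

structure Cfg (l : Sp) (N : Subgroup Sp) : Prop where
  nor : ∀ f : Sp, f ^ 3 = 1 → l * f = f * l → ∀ n ∈ N, f * n * f⁻¹ ∈ N
  dec : ∀ d : Sp, d ^ 3 = 1 → l * d = d * l → ∃ c : Sp, c ^ 3 = 1 ∧ c * d = d * c ∧ (∀ n ∈ N, c * n = n * c) ∧ c⁻¹ * d ∈ N
  uni : ∀ n ∈ N, n * n = 1 → n = 1 ∨ n = l

theorem Cfg.map {l : Sp} {N : Subgroup Sp} (h : Cfg l N) (e : Sp ≃* Sp) : Cfg (e l) (N.map e.toMonoidHom) := by
  refine ⟨fun f a b => ?_, fun f a b => ?_, ?_⟩
  · obtain ⟨f, rfl⟩ := e.surjective f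
    rintro _ ⟨n, i, rfl⟩
    exact ⟨_, h.nor f (e.injective (by rw [map_pow, a, map_one])) (e.injective (by rw [map_mul, b, map_mul])) n i,
      by simp⟩
  · obtain ⟨f, rfl⟩ := e.surjective f
    obtain ⟨c, c1, c2, c3, c4⟩ := h.dec f (e.injective (by rw [map_pow, a, map_one]))
      (e.injective (by rw [map_mul, b, map_mul]))
    refine ⟨e c, by rw [← map_pow, c1, map_one], by rw [← map_mul, c2, map_mul], ?_, _, c4, by simp⟩
    rintro _ ⟨n, i, rfl⟩
    simpa using congrArg e (c3 n i)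
  · rintro _ ⟨n, i, rfl⟩ j
    exact (h.uni n i (e.injective (by simpa using j))).imp (fun k => by simp [k]) fun k => by simp [k]

def cj (f n : M) : M := mul (mul f n) (mul f f)
def cjs (F : List M) : List ℕ → M → M
  | [], n => n
  | i :: w, n => cj (F.getD i one) (cjs F w n)
def nw (F Ns : List M) : List (List ℕ × ℕ) → M
  | [] => one
  | p :: w => mul (cjs F p.1 (Ns.getD p.2 one)) (nw F Ns w)
def bad (l m : M) : Bool := eqv (mul m m) one && (!eqv m one && !eqv m l)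
def chk4 (x : M) (F : List M) (w : List (List ℕ × ℕ)) : Bool := okF (mul x x) F && bad (mul x x) (nw F [x] w)
def test5 (x d : M) (F : List M) (ws : List (List (List ℕ × ℕ))) (c : M) : Bool :=
  !(sp c && (cub c && (com c x && (com c (cj d x) && com c d)))) ||
    ws.any fun w => bad (mul x x) (nw (d :: F) [x, mul (mul c c) d] w)
def chk5 (x d : M) (F : List M) (c : Cert) (p q : ℕ) (ws : List (List (List ℕ × ℕ))) : Bool :=
  okF (mul x x) (d :: F) && (certOK [x, cj d x, d] c p q && (List.range 64).all fun u => (List.range 64).all fun v =>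
    test5 x d F ws (cand [x, cj d x, d] c u v))

theorem getD_all {α : Type*} {p : α → Prop} {l : List α} {a : α} (h : ∀ x ∈ l, p x) (ha : p a) (i : ℕ) :
    p (l.getD i a) := by
  rcases lt_or_ge i l.length with j | j
  · rw [List.getD_eq_getElem _ _ j]; exact h _ (List.getElem_mem j)
  · rwa [List.getD_eq_default _ _ j]

theorem inv3 {s : Sp} (h : s ^ 3 = 1) : s * s = s⁻¹ := eq_inv_of_mul_eq_one_right (by rwa [← pow_three])

section
variable {l : M} {N : Subgroup Sp} (H : Cfg (tS l) N) (sl : sp l = true) {F Ns : List M}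
include H sl

theorem cj_spec {f n : M} (hf : sp f = true ∧ cub f = true ∧ com l f = true) (hn : sp n = true ∧ tS n ∈ N) :
    sp (cj f n) = true ∧ tS (cj f n) ∈ N := by
  have := (tS_cub hf.1).2 hf.2.1
  refine ⟨sp_mul (sp_mul hf.1 hn.1) (sp_mul hf.1 hf.1), ?_⟩
  rw [cj, tS_mul (sp_mul hf.1 hn.1) (sp_mul hf.1 hf.1), tS_mul hf.1 hn.1, tS_mul hf.1 hf.1, inv3 this]
  exact H.nor _ this ((tS_com sl hf.1).2 hf.2.2) _ hn.2

theorem nw_spec (hF : okF l F = true) (hN : ∀ n ∈ Ns, sp n = true ∧ tS n ∈ N) (w : List (List ℕ × ℕ)) :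
    sp (nw F Ns w) = true ∧ tS (nw F Ns w) ∈ N := by
  simp only [okF, List.all_eq_true, Bool.and_eq_true] at hF
  have o : sp one = true ∧ tS one ∈ N := ⟨sp_one, tS_one ▸ one_mem N⟩
  have k : ∀ w n, (sp n = true ∧ tS n ∈ N) → sp (cjs F w n) = true ∧ tS (cjs F w n) ∈ N := fun w n hn => by
    induction w with
    | nil => exact hn
    | cons i w ih =>
      exact cj_spec H sl (getD_all (p := fun f => sp f = true ∧ cub f = true ∧ com l f = true) hF
        ⟨sp_one, rfl, (tS_com sl sp_one).1 (by rw [tS_one, mul_one, one_mul])⟩ i) ih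
  induction w with
  | nil => exact o
  | cons p w ih =>
    have := k p.1 _ (getD_all (p := fun n => sp n = true ∧ tS n ∈ N) hN o p.2)
    exact ⟨sp_mul this.1 ih.1, tS_mul this.1 ih.1 ▸ mul_mem this.2 ih.2⟩

theorem bad_spec {m : M} (hm : sp m = true ∧ tS m ∈ N) (h : bad l m = true) : False := by
  simp only [bad, Bool.and_eq_true, Bool.not_eq_true'] at h
  rcases H.uni _ hm.2 (tS_one ▸ (tS_sq hm.1 sp_one).2 h.1) with i | i
  · rw [← tS_one, tS_eq hm.1 sp_one, h.2.1] at i; cases i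
  · rw [tS_eq hm.1 sl, h.2.2] at i; cases i

end

theorem chk4_spec {x : M} {F : List M} {w : List (List ℕ × ℕ)} (h : chk4 x F w = true) (sx : sp x = true)
    {N : Subgroup Sp} (H : Cfg (tS x * tS x) N) (hx : tS x ∈ N) : False := by
  rw [← tS_mul sx sx] at H
  rw [chk4, Bool.and_eq_true] at h
  exact bad_spec H (sp_mul sx sx) (nw_spec H (sp_mul sx sx) h.1 (by simp [sx, hx]) w) h.2

theorem chk5_spec {x d : M} {F : List M} {c : Cert} {p q : ℕ} {ws : List (List (List ℕ × ℕ))}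
    (h : chk5 x d F c p q ws = true) (sx : sp x = true) {N : Subgroup Sp} (H : Cfg (tS x * tS x) N) (hx : tS x ∈ N) :
    False := by
  rw [← tS_mul sx sx] at H
  have sl := sp_mul sx sx
  simp only [chk5, Bool.and_eq_true, List.all_eq_true, List.mem_range] at h
  obtain ⟨hF, hc, h⟩ := h
  have hd : sp d = true ∧ cub d = true ∧ com (mul x x) d = true := by
    simp only [okF, List.all_cons, Bool.and_eq_true] at hF; exact hF.1
  obtain ⟨e, e1, e2, e3, e4⟩ := H.dec _ ((tS_cub hd.1).2 hd.2.1) ((tS_com sl hd.1).2 hd.2.2)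
  have hj := cj_spec H sl hd ⟨sx, hx⟩
  obtain ⟨u, hu, v, hv, -, k⟩ := commutant (l := (e : Mt)) (List.forall_mem_cons.2 ⟨com_ev sx (e3 _ hx),
    List.forall_mem_cons.2 ⟨com_ev hj.1 (e3 _ hj.2), List.forall_mem_cons.2 ⟨com_ev hd.1 e2, by simp⟩⟩⟩) hc
  obtain ⟨se, rfl⟩ := eq_tS k
  have := h u hu v hv
  generalize cand [x, cj d x, d] c u v = m at *
  simp only [test5, se, (tS_cub se).1 e1, (tS_com se sx).1 (e3 _ hx), (tS_com se hj.1).1 (e3 _ hj.2),
    (tS_com se hd.1).1 e2, Bool.and_self, Bool.not_true, Bool.false_or, List.any_eq_true] at this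
  obtain ⟨w, -, b⟩ := this
  refine bad_spec H sl (nw_spec H sl hF (List.forall_mem_cons.2 ⟨⟨sx, hx⟩, List.forall_mem_cons.2
    ⟨⟨sp_mul (sp_mul se se) hd.1, ?_⟩, by simp⟩⟩) w) b
  rwa [tS_mul (sp_mul se se) hd.1, tS_mul se se, inv3 e1]

theorem c3_0 : chk3 (rp 0) [⟨7, 1, 4, 27, 55, 18⟩, ⟨38, 21, 4, 41, 49, 54⟩]
    [([[1, 1], [2, 1]], []), ([[2], [2, 1]], []), ([[], [0]], []), ([[]], []), ([[], [1], [2], [1, 1]], []), ([[], [2], [1, 1], [2, 1]], [])] 8 0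
    []
    [] = true := by decide +kernel
theorem c3_1 : chk3 (rp 1) [⟨33, 2, 4, 45, 16, 5⟩, ⟨34, 2, 4, 44, 23, 39⟩]
    [([[0], [2], [1, 2], [2, 2]], []), ([[], [0]], []), ([[1, 2], [2, 2]], []), ([], [[]]), ([[]], []), ([[2], [1, 2]], [])] 16 8
    [⟨1, 4, 6, 16, 24, 32⟩, ⟨1, 16, 4, 8, 18, 32⟩, ⟨1, 2, 8, 12, 16, 32⟩, ⟨1, 24, 30, 22, 10, 32⟩]
    [⟨1, 2, 4, 8, 16, 32⟩, ⟨1, 6, 4, 28, 16, 32⟩, ⟨1, 2, 6, 8, 26, 32⟩] = true := by decide +kernel
theorem c3_2 : chk3 (rp 2) [⟨34, 4, 6, 19, 61, 39⟩, ⟨3, 6, 2, 61, 10, 34⟩]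
    [([[0], [1], [1, 0], [2, 1]], []), ([[], [0]], []), ([[1], [1, 0]], []), ([[]], []), ([[], [1, 0], [2, 1]], []), ([[0], [2], [1, 0]], [])] 8 0
    []
    [] = true := by decide +kernel
theorem c3_5 : chk3 (rp 5) [⟨2, 4, 1, 36, 15, 22⟩, ⟨4, 1, 2, 17, 39, 13⟩]
    [([[1], [1, 0]], []), ([[2], [2, 0]], []), ([[], [0]], []), ([[]], []), ([[1], [2], [1, 0]], []), ([[], [0], [1]], [])] 8 0
    [⟨1, 24, 30, 22, 10, 32⟩, ⟨1, 7, 2, 24, 8, 40⟩]
    [] = true := by decide +kernel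
theorem c4_3 : chk4 (rp 3) [⟨32, 2, 4, 44, 16, 37⟩] [([0], 0), ([], 0)] = true := by decide +kernel
theorem c4_4 : chk4 (rp 4) [⟨32, 2, 4, 44, 16, 37⟩] [([0], 0), ([], 0)] = true := by decide +kernel
theorem c4_6 : chk4 (rp 6) [⟨32, 2, 4, 8, 50, 35⟩] [([0, 0], 0), ([], 0), ([0], 0), ([], 0)] = true := by decide +kernel
theorem c4_7 : chk4 (rp 7) [⟨1, 2, 8, 12, 16, 32⟩] [([0, 0], 0), ([0], 0), ([], 0)] = true := by decide +kernel
theorem c5_8 : chk5 (rp 8) ⟨1, 2, 12, 4, 16, 32⟩ [⟨3, 1, 10, 15, 63, 23⟩, ⟨2, 3, 7, 11, 45, 51⟩]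
    [([[], [0], [1], [1, 0]], []), ([[], [0, 0]], []), ([[1], [1, 0]], []), ([[0], [1]], []), ([], [[]]), ([[]], [])] 32 16
    [[([2], 1), ([], 1), ([], 1)], [([1], 1), ([], 1), ([], 1)], [([0, 2], 1), ([2], 1), ([], 1)]] = true := by decide +kernel

theorem sq_rp : ∀ i < 9, eqv (mul (rp i) (rp i)) one = true ↔ i = 0 ∨ i = 1 ∨ i = 2 ∨ i = 5 := by decide +kernel

theorem P3 {l r : Sp} (h : H3 l r) (r1 : r ≠ 1) : IsC2 r ∧ IsC2 l ∧ IsC2 (r * l) := by
  obtain ⟨i, hi, ρ, rfl⟩ := cls (s := r) (by rw [show 4 = 2 * 2 from rfl, pow_mul, pow_two r, h.hr, one_pow]) r1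
  have H := h.map (MulAut.conj ρ⁻¹)
  rw [show MulAut.conj ρ⁻¹ (ρ * tS (rp i) * ρ⁻¹) = tS (rp i) by simp [mul_assoc]] at H
  have s := sp_rp i hi
  obtain ⟨a, b, c⟩ : IsC2 (tS (rp i)) ∧ IsC2 (MulAut.conj ρ⁻¹ l) ∧ IsC2 (tS (rp i) * MulAut.conj ρ⁻¹ l) := by
    rcases (sq_rp i hi).1 ((tS_sq s sp_one).1 (tS_one ▸ H.hr)) with rfl | rfl | rfl | rfl
    exacts [chk3_spec c3_0 s H, chk3_spec c3_1 s H, chk3_spec c3_2 s H, chk3_spec c3_5 s H]
  exact ⟨a.conj ρ, by simpa [mul_assoc] using b.conj ρ, by simpa [mul_assoc] using c.conj ρ⟩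

theorem P4 {x : Sp} {N : Subgroup Sp} (h : Cfg (x * x) N) (h1 : x * x ≠ 1) (h4 : x ^ 4 = 1) (hx : x ∈ N) : False := by
  obtain ⟨i, hi, ρ, rfl⟩ := cls h4 (fun e => h1 (by rw [e, mul_one]))
  have H := h.map (MulAut.conj ρ⁻¹)
  have e : MulAut.conj ρ⁻¹ (ρ * tS (rp i) * ρ⁻¹) = tS (rp i) := by simp [mul_assoc]
  rw [map_mul, e] at H
  have hx' : tS (rp i) ∈ N.map (MulAut.conj ρ⁻¹).toMonoidHom := ⟨_, hx, e⟩
  have s := sp_rp i hi
  have : ¬ (i = 0 ∨ i = 1 ∨ i = 2 ∨ i = 5) := fun j => h1 (by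
    rw [conj_mul, (tS_sq s sp_one).2 ((sq_rp i hi).2 j), tS_one]; simp)
  obtain rfl | rfl | rfl | rfl | rfl : i = 3 ∨ i = 4 ∨ i = 6 ∨ i = 7 ∨ i = 8 := by omega
  exacts [chk4_spec c4_3 s H hx', chk4_spec c4_4 s H hx', chk4_spec c4_6 s H hx', chk4_spec c4_7 s H hx',
    chk5_spec c5_8 s H hx']

end Cfsg.Agent.S6
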