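import Cfsg.Agent.S6.Main
import Cfsg.Agent.S0270
import Cfsg.Agent.S1175
import Cfsg.Agent.Inv.Strong
/-! Groups with an involution centraliser `2.Sp₆(2)`: simplicity, fusion and generation. -/
set_option autoImplicit false
set_option linter.unusedVariables false

namespace Cfsg.Agent.S6
open Subgroup Cfsg.Agent.BG Cfsg.Agent.Inv

/-- the class `a₂` (315 involutions of `Sp₆(2)`) -/
def IsA2 (s : Sp) : Prop := ∃ ρ : Sp, ρ * tS (rp 2) * ρ⁻¹ = s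

theorem IsA2.conj {s : Sp} (h : IsA2 s) (g : Sp) : IsA2 (g * s * g⁻¹) := by
  obtain ⟨ρ, rfl⟩ := h
  exact ⟨g * ρ, by group⟩

section
open Matrix
theorem form_inv (ρ : Sp) (x y : I → ZMod 2) :
    ((ρ : Mt) *ᵥ x) ⬝ᵥ (J (Fin 3) (ZMod 2) *ᵥ ((ρ : Mt) *ᵥ y)) = x ⬝ᵥ (J (Fin 3) (ZMod 2) *ᵥ y) := by
  rw [mulVec_mulVec, dotProduct_mulVec, vecMul_mulVec, ← Matrix.mul_assoc, SymplecticGroup.mem_iff'.1 ρ.2,
    dotProduct_mulVec]

theorem not_a2 : ¬ IsA2 (tS (rp 5)) := by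
  rintro ⟨ρ, e⟩
  have k : ∀ c < 64, bf c (app (rp 2) c) = false := by decide +kernel
  obtain ⟨c, hc, ec⟩ := ex_vec (((ρ⁻¹ : Sp) : Mt) *ᵥ vec 8)
  have e1 : (ρ : Mt) *ᵥ vec c = vec 8 := by
    rw [ec, mulVec_mulVec, ← Submonoid.coe_mul, mul_inv_cancel, OneMemClass.coe_one, one_mulVec]
  have := form_inv ρ (vec c) (vec (app (rp 2) c))
  rw [← bt_bf, k c hc, e1, vec_app, ← coe_tS (sp_rp 2 (by decide)), ec, mulVec_mulVec _ (ρ : Mt),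
    mulVec_mulVec _ ((ρ : Mt) * _), ← Submonoid.coe_mul, ← Submonoid.coe_mul, e, coe_tS (sp_rp 5 (by decide)), ← vec_app, ← bt_bf, bt_inj] at this
  revert this; decide +kernel
end

theorem sq_cls {x : Sp} (h4 : x ^ 4 = 1) (h1 : x * x ≠ 1) : IsC2 (x * x) ∨ IsA2 (x * x) := by
  obtain ⟨i, hi, ρ, rfl⟩ := cls h4 (fun e => h1 (by rw [e, mul_one]))
  have s := sp_rp i hi
  have : ¬ (i = 0 ∨ i = 1 ∨ i = 2 ∨ i = 5) := fun j => h1 (by
    rw [conj_mul, (tS_sq s sp_one).2 ((sq_rp i hi).2 j), tS_one]; simp)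
  rw [conj_mul, ← tS_mul s s]
  obtain rfl | rfl | rfl | rfl | rfl : i = 3 ∨ i = 4 ∨ i = 6 ∨ i = 7 ∨ i = 8 := by omega
  · exact .inl (IsC2.conj ⟨_, cjk_spec (ρ := ⟨1, 6, 4, 28, 16, 32⟩) (by decide +kernel)⟩ ρ)
  · exact .inl (IsC2.conj ⟨_, cjk_spec (ρ := ⟨1, 6, 4, 28, 16, 32⟩) (by decide +kernel)⟩ ρ)
  · exact .inl (IsC2.conj ⟨_, cjk_spec (ρ := ⟨1, 6, 4, 28, 16, 32⟩) (by decide +kernel)⟩ ρ)
  · exact .inr (IsA2.conj ⟨_, cjk_spec (ρ := ⟨4, 2, 1, 37, 16, 13⟩) (by decide +kernel)⟩ ρ)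
  · exact .inr (IsA2.conj ⟨_, cjk_spec (ρ := ⟨4, 2, 1, 37, 16, 13⟩) (by decide +kernel)⟩ ρ)

theorem two_cubes {s : Sp} (h2 : s * s = 1) (h1 : s ≠ 1) : IsC2 s ∨ ∃ f g : Sp, f ^ 3 = 1 ∧ g ^ 3 = 1 ∧
    s * f = f * s ∧ s * g = g * s ∧ IsC2 (f * g) := by
  obtain ⟨i, hi, ρ, rfl⟩ := cls (s := s) (by rw [show 4 = 2 * 2 from rfl, pow_mul, pow_two s, h2, one_pow]) h1
  have k : ∀ f g σ : M, (okF (rp i) [f, g] && cjk σ (rp 1) (mul f g)) = true → ∃ f g : Sp, f ^ 3 = 1 ∧ g ^ 3 = 1 ∧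
      ρ * tS (rp i) * ρ⁻¹ * f = f * (ρ * tS (rp i) * ρ⁻¹) ∧ ρ * tS (rp i) * ρ⁻¹ * g = g * (ρ * tS (rp i) * ρ⁻¹) ∧
      IsC2 (f * g) := fun f g σ h => by
    simp only [okF, List.all_cons, List.all_nil, Bool.and_eq_true] at h
    obtain ⟨⟨⟨a1, a2, a3⟩, ⟨b1, b2, b3⟩, -⟩, c⟩ := h
    refine ⟨ρ * tS f * ρ⁻¹, ρ * tS g * ρ⁻¹, by rw [conj_pow, (tS_cub a1).2 a2]; simp,
      by rw [conj_pow, (tS_cub b1).2 b2]; simp, by rw [conj_mul, conj_mul, (tS_com (sp_rp i hi) a1).2 a3],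
      by rw [conj_mul, conj_mul, (tS_com (sp_rp i hi) b1).2 b3], ?_⟩
    rw [conj_mul, ← tS_mul a1 b1]
    exact IsC2.conj ⟨_, cjk_spec c⟩ ρ
  rcases (sq_rp i hi).1 ((tS_sq (sp_rp i hi) sp_one).1 (by
    rw [conj_mul] at h2; rw [tS_one]; simpa using h2)) with rfl | rfl | rfl | rfl
  · exact .inr (k ⟨1, 16, 4, 8, 18, 32⟩ ⟨1, 18, 4, 30, 6, 32⟩ ⟨1, 2, 6, 8, 26, 32⟩ (by decide +kernel))
  · exact .inl ⟨ρ, rfl⟩
  · exact .inr (k ⟨1, 4, 6, 16, 24, 32⟩ ⟨1, 6, 2, 28, 10, 32⟩ ⟨1, 2, 6, 8, 26, 32⟩ (by decide +kernel))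
  · exact .inr (k ⟨2, 4, 1, 32, 8, 16⟩ ⟨4, 1, 2, 18, 33, 8⟩ one (by decide +kernel))

theorem a2_pair {s : Sp} (h : IsA2 s) : ∃ σ : Sp, IsC2 (σ * s * σ⁻¹ * s) := by
  obtain ⟨ρ, rfl⟩ := h
  have e := cjk_spec (ρ := ⟨1, 2, 12, 8, 16, 32⟩) (s := rp 2) (t := ⟨1, 2, 6, 10, 28, 32⟩) (by decide +kernel)
  have c : IsC2 (tS (mul ⟨1, 2, 6, 10, 28, 32⟩ (rp 2))) :=
    ⟨_, cjk_spec (ρ := ⟨1, 10, 8, 28, 16, 32⟩) (by decide +kernel)⟩
  rw [tS_mul rfl rfl, ← e] at c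
  exact ⟨ρ * tS ⟨1, 2, 12, 8, 16, 32⟩ * ρ⁻¹, by convert c.conj ρ using 1; group⟩

theorem simple_Sp : IsSimpleGroup Sp := by
  obtain ⟨e⟩ := psp (ZMod.card 2)
  have := S0270.result (F := ZMod 2) 3 (by omega) (by omega)
  exact e.symm.isSimpleGroup

theorem tri {L : Type*} [Group L] {a b c z : L} (zc : ∀ g, g * z = z * g) (zz : z * z = 1) (h1 : b * a = z * (a * b))
    (h2 : c * a = z * (a * c)) (h3 : c * b = z * (b * c)) : a * (b * c) * (a * (b * c)) = z * (a * a * (b * b) * (c * c)) :=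
  calc a * (b * c) * (a * (b * c)) = a * b * (c * a) * (b * c) := by group
    _ = a * (b * z) * a * (c * b) * c := by rw [h2]; group
    _ = (a * z) * (b * a) * z * (b * c) * c := by rw [zc b, h3]; group
    _ = z * a * (z * (a * b * z)) * (b * c) * c := by rw [zc a, h1]; group
    _ = _ := by rw [zc (a * b), ← mul_assoc z z, zz]; group

theorem b3_inv {L : Type*} [Group L] {π : L →* Sp} {z : L} (hs : Function.Surjective π) (zz : z * z = 1)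
    (zc : ∀ g, g * z = z * g) (hk : ∀ a, π a = 1 → a = 1 ∨ a = z) (hd : ∀ a, IsC2 (π a) → a * a = z) {t : L}
    (ht : t * t = 1) (h2 : IsA2 (π t)) : ∃ u, π u = tS (rp 5) ∧ u * u = 1 := by
  choose A hA using hs
  have sc := fun {a b : L} {ρ : Sp} => sq_conj (fun s => ⟨A s, hA s⟩) zz zc hk (a := a) (b := b) (ρ := ρ)
  have q4 : tS t4 * tS t4 = 1 := tS_one ▸ (tS_sq rfl sp_one).2 rfl
  obtain ⟨ε, he⟩ : ∃ ε, ε = A (tS t4) * A (tS t4) := ⟨_, rfl⟩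
  have e0 : ε = 1 ∨ ε = z := hk _ (by rw [he, map_mul, hA, q4])
  have ee : ε * ε = 1 := by rcases e0 with rfl | rfl; exacts [mul_one 1, zz]
  have k : ∀ {ρ t}, cjk ρ t4 t = true → A (tS t) * A (tS t) = ε := fun i => by
    rw [he]; exact sc (by rw [hA, hA, cjk_spec i]) (by rw [hA, q4])
  have k2 := k (ρ := ⟨1, 4, 2, 22, 14, 32⟩) (t := t2) (by decide +kernel)
  have k6 := k (ρ := ⟨1, 2, 6, 8, 26, 32⟩) (t := t6) (by decide +kernel)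
  have k7 := k (ρ := ⟨1, 2, 7, 8, 27, 43⟩) (t := t7) (by decide +kernel)
  have c : ∀ {s t}, A (tS s) * A (tS s) = ε → A (tS t) * A (tS t) = ε → ∀ ρ,
      (sp s && (sp t && cjk ρ (rp 1) (mul s t))) = true → A (tS t) * A (tS s) = z * (A (tS s) * A (tS t)) :=
    fun {s t} i j ρ l => by
      simp only [Bool.and_eq_true] at l
      have := hd (A (tS s) * A (tS t)) ⟨_, by rw [map_mul, hA, hA, cjk_spec l.2.2, tS_mul l.1 l.2.1]⟩
      rw [← mul_right_inj (A (tS s)), ← mul_left_inj (A (tS t)), ← mul_assoc, ← mul_assoc, mul_assoc _ (A (tS s)), this,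
        zc, mul_assoc z, mul_assoc z, ← mul_assoc (A (tS s)), i, mul_assoc, j, ee, mul_one]
  have c24 := c k2 he.symm one (by decide +kernel)
  have s1 := tri zc zz c24 (c k2 k6 ⟨1, 2, 6, 8, 26, 32⟩ (by decide +kernel))
    (c he.symm k6 ⟨1, 6, 4, 28, 16, 32⟩ (by decide +kernel))
  have s3 := tri zc zz c24 (c k2 k7 ⟨1, 2, 7, 8, 27, 43⟩ (by decide +kernel))
    (c he.symm k7 ⟨1, 7, 4, 29, 16, 53⟩ (by decide +kernel))
  obtain ⟨ρ, e⟩ := h2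
  rw [k7, ← k6, ← s1, sc (a := t) (b := A (tS t2) * (A (tS t4) * A (tS t6))) (ρ := ρ⁻¹) (by
    rw [← e, map_mul, map_mul, hA, hA, hA, ← tS_mul (a := t4) (b := t6) rfl rfl,
      ← tS_mul (a := t2) (b := mul t4 t6) rfl rfl, ← cjk_spec (ρ := one) (s := rp 2) (t := mul t2 (mul t4 t6)) (by decide +kernel),
      tS_one]
    group) (by rw [← map_mul, ht, map_one]), ht] at s3
  refine ⟨A (tS (rp 5)), hA _, (sc (a := A (tS t2) * (A (tS t4) * A (tS t7))) (ρ := (tS ⟨7, 2, 4, 46, 54, 32⟩)⁻¹) ?_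
    (by rw [← map_mul, s3, map_one])).trans s3⟩
  rw [hA, map_mul, map_mul, hA, hA, hA, ← tS_mul (a := t4) (b := t7) rfl rfl,
    ← tS_mul (a := t2) (b := mul t4 t7) rfl rfl, ← cjk_spec (ρ := ⟨7, 2, 4, 46, 54, 32⟩) (s := rp 5) (t := mul t2 (mul t4 t7))
      (by decide +kernel)]
  group

variable {G : Type*} [Group G] {z t a y : G} {L M : Subgroup G} {π φ : G → Sp}

theorem St.Q (h : St z L π) (hy : y ∈ L) (h2 : y * y = 1) (ha : IsA2 (π y)) :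
    ∃ a ∈ L, a * a = 1 ∧ a * y * a⁻¹ = y * z := by
  obtain ⟨σ, c⟩ := a2_pair ha
  obtain ⟨b, bL, rfl⟩ := h.sur σ
  have m := mul_mem (mul_mem bL hy) (inv_mem bL)
  have q : b * y * b⁻¹ * (b * y * b⁻¹) = 1 := by rw [conj_mul, h2]; simp
  have := h.dbl _ (mul_mem m hy) (by rwa [h.mul _ (h.LC m) _ (h.LC hy), h.cnj (h.LC bL) (h.LC hy)])
  refine ⟨_, m, q, ?_⟩
  generalize b * y * b⁻¹ = a at q this
  rw [inv_eq_of_mul_eq_one_right q, mem_C1.1 (h.LC hy), ← this, mul_assoc (a * y), mul_assoc a y y, h2, mul_one]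

theorem St.a2_conj (h : St z L π) (hy : y ∈ L) (ht : t ∈ L) (h2 : y * y = 1) (ha : IsA2 (π y)) (hb : IsA2 (π t)) :
    ∃ c ∈ L, c * t * c⁻¹ = y := by
  obtain ⟨a, aL, -, e⟩ := h.Q hy h2 ha
  obtain ⟨ρ, i⟩ := ha
  obtain ⟨σ, j⟩ := hb
  obtain ⟨c, cL, k⟩ := h.sur (ρ * σ⁻¹)
  rcases h.eqL hy (mul_mem (mul_mem cL ht) (inv_mem cL)) (by
    rw [h.cnj (h.LC cL) (h.LC ht), k, ← i, ← j]; group) with l | l
  exacts [⟨c, cL, l⟩, ⟨a⁻¹ * c, mul_mem (inv_mem aL) cL, by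
    rw [show a⁻¹ * c * t * (a⁻¹ * c)⁻¹ = a⁻¹ * (c * t * c⁻¹) * a by group, l, ← e]; group⟩]

/-- commuting conjugates of `z` are of type `a₂` -/
theorem Pr.a2 (h : Pr z C1[z] π t C1[t] φ) : IsA2 (π t) := by
  have n : ∀ {z t : G} {π φ}, Pr z C1[z] π t C1[t] φ → ¬ IsC2 (π t) := fun h i =>
    ne_one_of_ord2 h.l.oz ((h.l.dbl _ h.tz i).symm.trans (sq_of_ord2 h.r.oz))
  obtain ⟨f, g, a, b, c1, c2, d⟩ := (two_cubes h.symm.tt h.n2).resolve_left (n h.symm)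
  obtain ⟨x, xL, rfl, x5⟩ := h.r.lift (by decide) a
  obtain ⟨y, yL, rfl, y5⟩ := h.r.lift (by decide) b
  have xt := mem_C1'.2 (h.r.comm (by decide) h.symm.tz xL x5 c1)
  have yt := mem_C1'.2 (h.r.comm (by decide) h.symm.tz yL y5 c2)
  have e := h.r.dbl _ (mul_mem xL yL) (by rwa [h.r.mul _ xL _ yL])
  have q : π (x * y) * π (x * y) = π t := by rw [← h.l.mul _ (mul_mem xt yt) _ (mul_mem xt yt), e]
  exact (q ▸ sq_cls (x := π (x * y)) (by rw [show 4 = 2 * 2 from rfl, pow_mul, pow_two, pow_two, q, h.tt])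
    (q ▸ h.n1)).resolve_left (n h)

/-- the setting of S1678 -/
structure Ct (z : G) (π : G → Sp) : Prop extends St z C1[z] π where
  perf : ∀ K : Subgroup G, (∀ a ∈ C1[z], ∀ b ∈ C1[z], a * b * a⁻¹ * b⁻¹ ∈ K) → C1[z] ≤ K
  b3 : ∀ t ∈ C1[z], t * t = 1 → IsA2 (π t) → ∃ u ∈ C1[z], π u = tS (rp 5) ∧ u * u = 1

variable [Finite G]

theorem exists_ct (hz : orderOf z = 2) (hC : IsNonsplitDoubleCover C1[z] Sp) : ∃ π, Ct z π := by
  classical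
  obtain ⟨h1, ⟨e⟩, h3⟩ := hC
  obtain ⟨ψ, hk, hs⟩ : ∃ ψ : C1[z] →* Sp, ψ.ker = center _ ∧ Function.Surjective ψ :=
    ⟨e.toMonoidHom.comp (QuotientGroup.mk' _), by ext x; simp, e.surjective.comp (QuotientGroup.mk'_surjective _)⟩
  have zc : (⟨z, mem_C1_self z⟩ : C1[z]) ∈ center _ := mem_center_iff.2 fun g => Subtype.ext (mem_C1.1 g.2)
  have z1 : (⟨z, mem_C1_self z⟩ : C1[z]) ≠ 1 := fun i => ne_one_of_ord2 hz (congrArg Subtype.val i)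
  have zz : (⟨z, mem_C1_self z⟩ : C1[z]) * ⟨z, mem_C1_self z⟩ = 1 := Subtype.ext (sq_of_ord2 hz)
  have c : ∀ a ∈ center C1[z], a = 1 ∨ a = ⟨z, mem_C1_self z⟩ := fun a i => or_iff_not_imp_left.2 fun j => by
    obtain ⟨w, -, hw⟩ := (Nat.card_eq_two_iff' (1 : center C1[z])).1 h1
    exact congrArg Subtype.val ((hw ⟨a, i⟩ fun k => j (congrArg Subtype.val k)).trans
      (hw ⟨_, zc⟩ fun k => z1 (congrArg Subtype.val k)).symm)
  have ex : ∀ g : C1[z], ∃ w ∈ center C1[z], ∃ v ∈ commutator C1[z], w * v = g := fun g => by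
    have : ψ g ∈ (commutator C1[z]).map ψ := by
      rw [map_commutator_eq, MonoidHom.range_eq_top.2 hs, ← commutator_def, Class.Sp_perfect (.inl le_rfl)]; trivial
    obtain ⟨v, i, j⟩ := this
    exact ⟨g * v⁻¹, by rw [← hk, MonoidHom.mem_ker, map_mul, map_inv, j, mul_inv_cancel], v, i, by simp⟩
  have hp : Group.IsPerfect C1[z] := ⟨by
    by_contra n
    refine h3 (commutator _) (isComplement'_of_disjoint_and_mul_eq_univ (disjoint_def.2 fun {a} i j => ?_)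
      (Set.eq_univ_of_forall fun g => by
        obtain ⟨w, i, v, j, k⟩ := ex g
        exact ⟨w, i, v, j, k⟩))
    refine (c a i).resolve_right fun k => n (eq_top_iff.2 fun g _ => ?_)
    obtain ⟨w, i, v, l, rfl⟩ := ex g
    refine mul_mem ?_ l
    rcases c w i with rfl | rfl
    exacts [one_mem _, k ▸ j]⟩
  have hk' : ∀ a, ψ a = 1 → a = 1 ∨ a = ⟨z, mem_C1_self z⟩ := fun a i => c a (hk ▸ i)
  have d := dbl hs zz (mem_center_iff.1 zc) hk' z1 (by rwa [← hk] at zc)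
  have cc : ∀ a (i : a ∈ C1[z]), a ∈ C[C1[z]] ↔ (⟨a, i⟩ : C1[z]) ∈ center _ := fun a i =>
    ⟨fun j => mem_center_iff.2 fun g => Subtype.ext (mem_C.1 j g g.2),
      fun j => mem_C.2 fun g k => congrArg Subtype.val (mem_center_iff.1 j ⟨g, k⟩)⟩
  have uz : ∀ u ∈ C[C1[z]], orderOf u = 2 → u = z := fun u i j => by
    have k := mem_C1'.2 (mem_C.1 i z (mem_C1_self z))
    exact congrArg Subtype.val ((c _ ((cc u k).1 i)).resolve_left fun l => ne_one_of_ord2 j (congrArg Subtype.val l))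
  obtain ⟨π, hπ⟩ : ∃ π : G → Sp, ∀ a (i : a ∈ C1[z]), π a = ψ ⟨a, i⟩ :=
    ⟨fun a => if i : a ∈ C1[z] then ψ ⟨a, i⟩ else 1, fun a i => dif_pos i⟩
  refine ⟨π, ⟨hz, mem_C1_self z, le_rfl, normG _, fun a i b j => by rw [hπ _ (mul_mem i j), hπ a i, hπ b j, ← map_mul]; rfl,
    fun a i => by rw [hπ a i, cc a i, ← hk, MonoidHom.mem_ker], fun a i j => (hk' ⟨a, i⟩ (hπ a i ▸ j)).imp
      (congrArg Subtype.val) (congrArg Subtype.val), fun σ => ?_,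
    fun a i j => congrArg Subtype.val (d ⟨a, i⟩ (hπ a i ▸ j)), fun u i j g k => ?_⟩, fun K hK g i => ?_,
    fun t i j k => ?_⟩
  · obtain ⟨⟨a, j⟩, e⟩ := hs σ
    exact ⟨a, j, by rw [hπ a j, e]⟩
  · have := uz _ k (by rw [orderOf_conj', j])
    rw [uz u i j] at this
    exact mem_C1.2 (mul_inv_eq_iff_eq_mul.1 this)
  · exact (show commutator C1[z] ≤ K.subgroupOf _ from commutator_le.2 fun a _ b _ => hK a a.2 b b.2)
      (hp.commutator_eq_top ▸ mem_top (⟨g, i⟩ : C1[z]))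
  · obtain ⟨u, l, m⟩ := b3_inv hs zz (mem_center_iff.1 zc) hk' d (t := ⟨t, i⟩) (Subtype.ext j) (hπ t i ▸ k)
    exact ⟨u, u.2, by rw [hπ u u.2, l], congrArg Subtype.val m⟩

namespace Ct
variable (h : Ct z π)
include h

theorem a2 {g : G} (hc : g * z * g⁻¹ ∈ C1[z]) (hn : g * z * g⁻¹ ≠ z) : IsA2 (π (g * z * g⁻¹)) := by
  have := h.toSt.pr hc hn
  rw [cj_C1] at this
  exact this.a2

theorem norm_syl {S : Subgroup G} (hS : Syl 2 S C1[z]) (hz : z ∈ S) : N[S] ≤ C1[z] := fun y i => by_contra fun n => by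
  have tz := hS.1 (conj_mem i hz)
  have ot : orderOf (y * z * y⁻¹) = 2 := by rw [orderOf_conj', h.oz]
  obtain ⟨a, az, a2, e⟩ := h.toSt.Q tz (sq_of_ord2 ot) (h.a2 tz fun e => n (mem_C1.2 (mul_inv_eq_iff_eq_mul.1 e)))
  generalize ht : y * z * y⁻¹ = t at tz e
  have SD : S ≤ C1[z] ⊓ C1[t] := le_inf hS.1 (by rw [← ht, ← cj_C1, ← cj_of_mem_N i]; exact cj_mono y hS.1)
  have aN : a ∈ N[C1[z] ⊓ C1[t]] := inv_mem_iff.1 (mem_N_of fun b ⟨j, k⟩ => mem_inf.2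
    ⟨mul_mem (mul_mem (inv_mem az) j) (inv_mem (inv_mem az)), mem_C1.2 (by
      rw [inv_inv, show a⁻¹ * b * a * t = a⁻¹ * (b * (a * t * a⁻¹)) * a by group,
        show t * (a⁻¹ * b * a) = a⁻¹ * (a * t * a⁻¹ * b) * a by group, e, ← mul_assoc b, mem_C1.1 k, mul_assoc t b,
        mem_C1.1 j, mul_assoc t])⟩)
  obtain ⟨g, ⟨-, gN⟩, k⟩ := Syl.sub_cj (hS.sub (L := C1[z] ⊓ N[C1[z] ⊓ C1[t]]) (le_inf hS.1 (SD.trans (normG _)))
    inf_le_left) Nat.prime_two (zpowers_le.2 (mem_inf.2 ⟨az, aN⟩)) (pig_zpowers.2 (pie_of_pow Nat.prime_two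
      (by rw [pow_two, a2])))
  have := (cj_of_mem_N gN ▸ cj_mono g SD (k (mem_zpowers a))).2
  rw [mem_C1.1 this, mul_inv_cancel_right] at e
  exact ne_one_of_ord2 h.oz (by simpa using e)

theorem exists_syl : ∃ S, Syl 2 S C1[z] ∧ z ∈ S ∧ Syl 2 S ⊤ := by
  obtain ⟨S, hS, i⟩ := syl_superset Nat.prime_two (zpowers_le.2 (mem_C1_self z))
    (pig_zpowers.2 (pie_of_pow Nat.prime_two (by rw [pow_two, sq_of_ord2 h.oz])))
  have hz := i (mem_zpowers z)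
  exact ⟨S, hS, hz, Syl.of_norm (hS.sub (le_inf le_top (normG S)) (inf_le_right.trans (h.norm_syl hS hz))) Nat.prime_two⟩

theorem into {H : Subgroup G} (hH : C1[z] ≤ H) (hy : y ∈ H) (h2 : y * y = 1) : ∃ g ∈ H, g * y * g⁻¹ ∈ C1[z] := by
  obtain ⟨S, hS, -, hT⟩ := h.exists_syl
  obtain ⟨g, i, j⟩ := Syl.cj_sub (hT.sub (hS.1.trans hH) le_top) Nat.prime_two (zpowers_le.2 hy)
    (pig_zpowers.2 (pie_of_pow Nat.prime_two (by rw [pow_two, h2])))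
  exact ⟨g, i, hS.1 (j (mem_cj_conj.2 (mem_zpowers y)))⟩

variable (hO : oddCore G = ⊥) (hZ : center G = ⊥)
include hO hZ

theorem exists_pr : ∃ g, g * z * g⁻¹ ∈ C1[z] ∧ g * z * g⁻¹ ≠ z := by
  by_contra! n
  refine ne_one_of_ord2 h.oz (mem_bot.1 (hZ ▸ mem_center_iff.2 fun g => ?_))
  have := Blk.zstar ⟨h.oz, fun g i => n g (mem_C1'.2 i)⟩ g
  rw [show pPrimeCore 2 G = ⊥ from hO, mem_bot, mul_inv_eq_one, mul_inv_eq_iff_eq_mul] at this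
  exact this.symm

theorem simple : IsSimpleGroup G := by
  have : Fact (Nat.Prime 2) := ⟨Nat.prime_two⟩
  have : Nontrivial G := ⟨⟨z, 1, ne_one_of_ord2 h.oz⟩⟩
  refine ⟨fun N hN => or_iff_not_imp_left.2 fun n => ?_⟩
  obtain ⟨u, hu⟩ := exists_prime_orderOf_dvd_card' (G := N) 2 (by
    by_contra i
    exact n (le_bot_iff.1 (hO ▸ Core.le_pPrimeCore hN ((Nat.Prime.coprime_iff_not_dvd Nat.prime_two).2 i).symm)))
  rw [← orderOf_coe] at hu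
  obtain ⟨y, yN, yz, y1⟩ : ∃ y ∈ N, y ∈ C1[z] ∧ π y ≠ 1 := by
    obtain ⟨g, -, i⟩ := h.into le_top (mem_top u.1) (sq_of_ord2 hu)
    by_cases e : π (g * u * g⁻¹) = 1
    · have := (h.kerL _ i e).resolve_left (ne_one_of_ord2 (by rw [orderOf_conj', hu]))
      obtain ⟨w, j, k⟩ := h.exists_pr hO hZ
      exact ⟨_, hN.conj_mem _ (this ▸ hN.conj_mem _ u.2 g) w, j, (h.toSt.pr j k).n1⟩
    · exact ⟨_, hN.conj_mem _ u.2 g, i, e⟩
  let K : Subgroup Sp :=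
    { carrier := {s | ∃ n ∈ N, n ∈ C1[z] ∧ π n = s}
      one_mem' := ⟨1, one_mem _, one_mem _, h.toSt.one⟩
      mul_mem' := by
        rintro _ _ ⟨a, i, j, rfl⟩ ⟨b, k, l, rfl⟩
        exact ⟨a * b, mul_mem i k, mul_mem j l, h.mul a j b l⟩
      inv_mem' := by
        rintro _ ⟨a, i, j, rfl⟩
        exact ⟨a⁻¹, inv_mem i, inv_mem j, h.toSt.inv j⟩ }
  have hK : K = ⊤ := (simple_Sp.eq_bot_or_eq_top_of_normal K ⟨by
    rintro _ ⟨a, i, j, rfl⟩ σ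
    obtain ⟨c, k, rfl⟩ := h.sur σ
    exact ⟨_, hN.conj_mem a i c, mul_mem (mul_mem k j) (inv_mem k), h.toSt.cnj k j⟩⟩).resolve_left fun e =>
      y1 (mem_bot.1 (e ▸ (⟨y, yN, yz, rfl⟩ : π y ∈ K)))
  have CN : C1[z] ≤ N := h.perf N fun a i b j => by
    obtain ⟨n, k, l, e⟩ : π a ∈ K := hK ▸ mem_top _
    have m : n * b * n⁻¹ * b⁻¹ ∈ N := by
      rw [mul_assoc, mul_assoc, ← mul_assoc b]; exact mul_mem k (hN.conj_mem _ (inv_mem k) b)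
    rcases h.toSt.eqL l i e with rfl | rfl
    · exact m
    · rwa [mul_assoc n, ← mem_C1.1 j, mul_inv_rev, ← mul_assoc, ← mul_assoc, mul_inv_cancel_right]
  obtain ⟨S, hS, hz, hT⟩ := h.exists_syl
  refine eq_top_iff.2 fun g _ => ?_
  obtain ⟨w, i, j⟩ := Syl.conj (hT.sub (hS.1.trans CN) le_top) Nat.prime_two
    (show Syl 2 (BG.cj g S) N by
      have := (hT.sub (hS.1.trans CN) le_top).cj g
      rwa [cj_of_mem_N (A := N) (mem_N_of fun a i => hN.conj_mem a i g)] at this)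
  have : w⁻¹ * g ∈ N[S] := mem_N_iff_cj.2 (by rw [cj_mul, ← j, ← cj_mul, inv_mul_cancel, cj_one])
  simpa using mul_mem i (CN (h.norm_syl hS hz this))

/-- `C(z)` together with any element moving `z` to a commuting involution generates `G` -/
theorem top {H : Subgroup G} (hH : C1[z] ≤ H) {m : G} (hm : m ∈ H) (hc : m * z * m⁻¹ ∈ C1[z]) (hn : m * z * m⁻¹ ≠ z) :
    H = ⊤ := by
  have := h.simple hO hZ
  have : Fact (Nat.Prime 2) := ⟨Nat.prime_two⟩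
  by_contra n
  have sq : ∀ g : G, g * z * g⁻¹ * (g * z * g⁻¹) = 1 := fun g => by rw [conj_mul, sq_of_ord2 h.oz]; simp
  have key : ∀ y ∈ C1[z], y * y = 1 → IsA2 (π y) → ∃ c ∈ H, c * z * c⁻¹ = y := fun y i j k => by
    obtain ⟨c, l, e⟩ := h.toSt.a2_conj i hc j k (h.a2 hc hn)
    exact ⟨c * m, mul_mem (hH l) hm, by rw [← e]; group⟩
  obtain ⟨S, hS, hz, hT⟩ := h.exists_syl
  obtain ⟨P, rfl⟩ := hT.exists_sylow_top Nat.prime_two
  obtain ⟨E, hE⟩ := S1175.result H n z h.oz (hH (mem_C1_self z)) ⟨P, hz, fun s i => mem_C1.1 (hS.1 i)⟩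
    (fun g i => by
      obtain ⟨w, j, k⟩ := h.into hH i (sq g)
      rw [show w * (g * z * g⁻¹) * w⁻¹ = w * g * z * (w * g)⁻¹ by group] at k
      by_cases e : w * g * z * (w * g)⁻¹ = z
      · exact (mul_mem_cancel_left j).1 (hH (mem_C1.2 (mul_inv_eq_iff_eq_mul.1 e)))
      · obtain ⟨c, l, e⟩ := key _ k (sq _) (h.a2 k e)
        have : c⁻¹ * (w * g) ∈ C1[z] := mem_C1.2 (by
          rw [mul_assoc, ← inv_mul_cancel_right (w * g * z) (w * g), ← e]; group)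
        exact (mul_mem_cancel_left j).1 ((mul_mem_cancel_left (inv_mem l)).1 (hH this)))
    (fun g i j => by
      have k : g * z * g⁻¹ ∈ C1[z] := mem_C1'.2 i
      obtain ⟨c, l, e⟩ := key (z * (g * z * g⁻¹)) (mul_mem (mem_C1_self z) k) (by
        rw [← pow_two, i.mul_pow, pow_two, pow_two, sq, sq_of_ord2 h.oz, one_mul])
        (by rw [h.mul _ (mem_C1_self z) _ k, h.toSt.pz, one_mul]; exact h.a2 k j)
      rw [← e, ← cj_C1]
      exact cj_le_of_mem hH (normG H l))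
  obtain ⟨u, i, j, k⟩ := h.b3 _ hc (sq m) (h.a2 hc hn)
  have u1 : π u ≠ 1 := by rw [j, ← tS_one, Ne, tS_eq rfl rfl]; decide +kernel
  obtain ⟨g, rfl⟩ := isConj_iff.1 (se_isConj hE h.oz (ord2_iff.2 ⟨k, fun e => u1 (by rw [e, h.toSt.one])⟩))
  exact not_a2 (j ▸ h.a2 i fun e => u1 (by rw [e, h.toSt.pz]))

end Ct

end Cfsg.Agent.S6
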