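import Cfsg.Agent.S6.Code
import Cfsg.Agent.S0245
/-! A Sylow 2-subgroup of `Sp₆(2)` and the classes of elements of order 2 and 4. -/
set_option autoImplicit false

namespace Cfsg.Agent.S6
open Subgroup

section
variable {G : Type*} [Group G] {g : G} {gs : List G}

abbrev cl (gs : List G) : Subgroup G := closure {h | h ∈ gs}

def TwL : List G → Prop
  | [] => True
  | g :: gs => TwL gs ∧ g * g ∈ cl gs ∧ ∀ h ∈ gs, g * h * g⁻¹ ∈ cl gs
def Ind : List G → Prop
  | [] => True
  | g :: gs => Ind gs ∧ g ∉ cl gs

theorem mem_cl (h : g ∈ gs) : g ∈ cl gs := subset_closure h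
theorem cl_nil : cl ([] : List G) = ⊥ := by simp [cl]
theorem cl_le (g : G) (gs : List G) : cl gs ≤ cl (g :: gs) := closure_mono fun _ h => List.mem_cons_of_mem g h

theorem conj_cl {V : Subgroup G} (h : ∀ h ∈ gs, g * h * g⁻¹ ∈ V) : ∀ v ∈ cl gs, g * v * g⁻¹ ∈ V :=
  fun _ hv => (closure_le (V.comap (MulAut.conj g).toMonoidHom)).2 h hv

theorem mem_cl_cons (h : TwL (g :: gs)) (s : G) : s ∈ cl (g :: gs) ↔ s ∈ cl gs ∨ s * g⁻¹ ∈ cl gs := by
  obtain ⟨-, h2, hn⟩ := h
  have hn := conj_cl hn
  let V : Subgroup G :=
    { carrier := {s | s ∈ cl gs ∨ s * g⁻¹ ∈ cl gs}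
      one_mem' := .inl (one_mem _)
      mul_mem' := by
        rintro a b (i | i) (j | j)
        · exact .inl (mul_mem i j)
        · exact .inr (mul_assoc a b _ ▸ mul_mem i j)
        · exact .inr (by convert mul_mem i (hn b j) using 1; group)
        · exact .inl (by convert mul_mem (mul_mem i (hn _ j)) h2 using 1; group)
      inv_mem' := by
        rintro a (i | i)
        · exact .inl (inv_mem i)
        · exact .inr (by convert mul_mem (inv_mem h2) (hn _ (inv_mem i)) using 1; group) }
  refine ⟨fun i => (closure_le V).2 (fun h j => ?_) i, ?_⟩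
  · rcases List.mem_cons.1 j with rfl | j
    exacts [.inr (by simp), .inl (mem_cl j)]
  · rintro (i | i)
    · exact cl_le g gs i
    · simpa using mul_mem (cl_le g gs i) (mem_cl (gs := g :: gs) List.mem_cons_self)

theorem relIndex_cl (h : TwL (g :: gs)) (hi : g ∉ cl gs) : (cl gs).relIndex (cl (g :: gs)) = 2 :=
  relIndex_eq_two_iff.2 ⟨g⁻¹, inv_mem (mem_cl List.mem_cons_self), fun b hb => by
    rcases (mem_cl_cons h b).1 hb with i | i
    · exact .inr ⟨i, fun j => hi (by simpa using mul_mem (inv_mem j) i)⟩
    · exact .inl ⟨i, fun j => hi (by simpa using mul_mem (inv_mem i) j)⟩⟩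

theorem card_cl [Finite G] (h : TwL gs) (hi : Ind gs) : Nat.card (cl gs) = 2 ^ gs.length := by
  induction gs with
  | nil => rw [cl_nil]; simp
  | cons g gs ih =>
    rw [← ((cl gs).subgroupOf (cl (g :: gs))).card_mul_index, Nat.card_congr (subgroupOfEquivOfLe (cl_le g gs)).toEquiv,
      ih h.1 hi.1, List.length_cons, pow_succ, ← relIndex_cl h hi.2]; rfl

variable {H : Type*} [Group H] (π : G →* H)

theorem map_cl {s : G} (h : s ∈ cl gs) : π s ∈ cl (gs.map π) :=
  (closure_le ((cl (gs.map π)).comap π)).2 (fun _ i => mem_cl (List.mem_map_of_mem i)) h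

theorem Ind.of_map (h : Ind (gs.map π)) : Ind gs := by
  induction gs with
  | nil => trivial
  | cons g gs ih => exact ⟨ih h.1, fun i => h.2 (map_cl π i)⟩

theorem inj_cl (h : TwL gs) (hi : Ind (gs.map π)) : ∀ s ∈ cl gs, π s = 1 → s = 1 := by
  induction gs with
  | nil => intro s i _; rwa [cl_nil, mem_bot] at i
  | cons g gs ih =>
    intro s i e
    rcases (mem_cl_cons h s).1 i with j | j
    · exact ih h.1 hi.1 s j e
    · exact absurd (by simpa [e] using map_cl π j) hi.2

end

def tw : List M → List M
  | [] => [one]
  | g :: gs => tw gs ++ (tw gs).map fun m => mul m g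
def twOK : List M → Bool
  | [] => true
  | g :: gs => twOK gs && (sp g && ((tw gs).any (eqv (mul g g)) && (!(tw gs).any (eqv g) &&
      gs.all fun h => (tw gs).any fun m => eqv (mul g h) (mul m g))))

theorem tw_spec {gs : List M} (h : twOK gs = true) : (∀ g ∈ gs, sp g = true) ∧ (∀ m ∈ tw gs, sp m = true) ∧
    TwL (gs.map tS) ∧ Ind (gs.map tS) ∧ ∀ s, s ∈ cl (gs.map tS) ↔ ∃ m ∈ tw gs, s = tS m := by
  induction gs with
  | nil => exact ⟨by simp, by simp [tw, sp_one], trivial, trivial, fun s => by
      rw [List.map_nil, cl_nil, mem_bot]; simp [tw, tS_one]⟩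
  | cons g gs ih =>
    simp only [twOK, Bool.and_eq_true, List.any_eq_true, Bool.not_eq_true', List.all_eq_true, List.any_eq_false] at h
    obtain ⟨h0, hg, ⟨m, hm, h2⟩, h3, h4⟩ := h
    obtain ⟨i1, i2, i3, i4, i5⟩ := ih h0
    have T : TwL ((g :: gs).map tS) := ⟨i3, (i5 _).2 ⟨m, hm, (tS_sq hg (i2 m hm)).2 h2⟩, fun h hh' => by
      obtain ⟨h, hh, rfl⟩ := List.mem_map.1 hh'
      obtain ⟨m, hm, e⟩ := h4 h hh
      refine (i5 _).2 ⟨m, hm, mul_inv_eq_iff_eq_mul.2 ?_⟩
      rwa [← tS_mul hg (i1 h hh), ← tS_mul (i2 m hm) hg, tS_eq (sp_mul hg (i1 h hh)) (sp_mul (i2 m hm) hg)]⟩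
    refine ⟨List.forall_mem_cons.2 ⟨hg, i1⟩, fun m hm => ?_, T, ⟨i4, fun i => ?_⟩, fun s => ?_⟩
    · rcases List.mem_append.1 hm with j | j
      · exact i2 m j
      · obtain ⟨m, k, rfl⟩ := List.mem_map.1 j
        exact sp_mul (i2 m k) hg
    · obtain ⟨m, hm, e⟩ := (i5 _).1 i
      exact h3 m hm ((tS_eq hg (i2 m hm)).1 e)
    · rw [List.map_cons, mem_cl_cons T, i5, i5]
      simp only [tw, List.mem_append, List.mem_map]
      constructor
      · rintro (⟨m, j, e⟩ | ⟨m, j, e⟩)
        exacts [⟨m, .inl j, e⟩, ⟨_, .inr ⟨m, j, rfl⟩, by rw [tS_mul (i2 m j) hg, ← e, inv_mul_cancel_right]⟩]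
      · rintro ⟨m, j | ⟨m, j, rfl⟩, e⟩
        exacts [.inl ⟨m, j, e⟩, .inr ⟨m, j, by rw [e, tS_mul (i2 m j) hg, mul_inv_cancel_right]⟩]

def gy : M := ⟨1, 2, 6, 8, 24, 32⟩
def gx : M := ⟨1, 3, 4, 8, 16, 48⟩
def gw : M := ⟨1, 2, 5, 8, 16, 40⟩
def t7 : M := ⟨1, 2, 4, 15, 23, 39⟩
def t6 : M := ⟨1, 2, 4, 14, 22, 32⟩
def t5 : M := ⟨1, 2, 4, 13, 16, 37⟩
def t4 : M := ⟨1, 2, 4, 12, 16, 32⟩
def t3 : M := ⟨1, 2, 4, 8, 19, 35⟩
def t2 : M := ⟨1, 2, 4, 8, 18, 32⟩
def gU : List M := [gy, gx, gw, t7, t6, t5, t4, t3, t2]

theorem gU_ok : twOK gU = true := by decide +kernel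

theorem card_Sp : Nat.card Sp = 1451520 := by
  rw [S0245.result (ZMod.card 2)]; decide +kernel

def reps : List M := [⟨1, 2, 4, 12, 16, 32⟩, ⟨1, 2, 4, 12, 18, 32⟩, ⟨1, 2, 4, 10, 20, 32⟩, ⟨1, 2, 6, 14, 24, 32⟩,
  ⟨1, 2, 6, 14, 26, 32⟩, ⟨1, 2, 4, 12, 18, 33⟩, ⟨1, 2, 6, 14, 24, 33⟩, ⟨1, 2, 6, 9, 25, 36⟩, ⟨1, 2, 6, 9, 27, 37⟩]
def rp (i : ℕ) : M := reps.getD i one

def clsOK : List M → List ℕ → Bool
  | [], _ => true
  | _ :: _, [] => false
  | u :: us, c :: cs => (!eqv (mul (mul u u) (mul u u)) one || (eqv u one ||
      (Nat.blt (c % 16) 9 && (sp (dec (c / 16)) && eqv (mul (dec (c / 16)) (rp (c % 16))) (mul u (dec (c / 16))))))) &&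
      clsOK us cs

def clsC : List ℕ := [
  0, 553606320144, 1086454961168, 274773248097, 554084599824, 554084599825, 846142376977, 563211405365,
  708703488016, 708703488017, 983581395985, 754337515573, 405870482529, 554235594837, 915079957589,
  475433206818, 556769085456, 556769085457, 986534251537, 565359020085, 554168490001, 554084599826,
  944788148325, 708791573525, 1052384761873, 807349323877, 983581395986, 914949938197, 554302707797,
  849095363605, 746016147477, 475433206817, 746016147472, 746016147473, 849095363601, 752190162997,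
  914949938193, 564444530805, 846142376978, 1052384761877, 708791573521, 708703488018, 1097020413045,
  554168490005, 760431844421, 986534251541, 556769085461, 438925919265, 507565710401, 556928469109,
  548376288309, 335846573090, 507565710405, 983581395989, 708703488021, 303634383905, 545444534357,
  846142376981, 554084599829, 335846573089, 227788523586, 159136156737, 227788523585, 227788523584,
  335830058018, 547319589941, 557994084533, 507821829249, 335863350307, 335863350310, 307660915766,
  405669151780, 335846573091, 335846573094, 305513366582, 405652374564, 335847097378, 478558436405,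
  556895439093, 439144561857, 475433206819, 475433206822, 442952516662, 545239008292, 564310706231,
  777410643991, 846126124055, 554068084760, 564294191159, 708691429399, 846125861911, 554068346904,
  545243202595, 545243202598, 514901541942, 475462566948, 475462566947, 475462566950, 445099934774,
  545243202596, 563211929655, 554068346903, 983569009687, 708691429400, 563228444727, 554068084759,
  983569337367, 777410643992, 545239008291, 545239008294, 547113862198, 475433206820, 405653095458,
  1052485881045, 554202564821, 545423897825, 405652374563, 405652374566, 375314973750, 335846573092,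
  405669151779, 405669151782, 411822261302, 335863350308, 405623473186, 983799696533, 554235857045,
  475663967393, 224030441538, 233618670659, 238719009875, 227788539970, 750671712597, 233618670662,
  233878717510, 754421422453, 563303698773, 238979056726, 238719009878, 560074086773, 475824214273,
  267454121028, 204912919636, 445222705441, 510636000643, 561123692631, 1005099160647, 545272563107,
  511709742150, 552449871895, 553523744791, 545809433670, 510636000342, 1086372385815, 1050670339095,
  545272562774, 475483538916, 725590873112, 914305257496, 440863753668, 440863753667, 1091556152391,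
  560569782359, 475483538915, 511999149126, 914305257495, 947591122967, 545545192518, 441673253974,
  724248564759, 725590873111, 475756168278, 545272563108, 553523744792, 1086372385816, 510636000644,
  263498849346, 204912919635, 267454121027, 258398573634, 1024920471861, 267714167878, 267454121030,
  994855698709, 558916454709, 204912919638, 204099224662, 563211419925, 545424361825, 238719009876,
  233618670660, 515351068993, 267795390562, 269085705331, 274722915427, 274774845538, 306670994787,
  563288610935, 927568108647, 340770686275, 409469191427, 874673413223, 564370348151, 375386277155,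
  239064609890, 239025194083, 201448359027, 233964469346, 201513203829, 273909220454, 274722915430,
  202586812533, 405723677798, 555143272471, 554069399575, 371103892582, 404637353062, 983570389015,
  1019004000279, 370017567846, 169309071477, 239025194086, 238765147238, 166624583797, 233964469349,
  269085705334, 269345752182, 239064609893, 305601447030, 914846718999, 950548765719, 339701138550,
  409469191286, 778754202647, 777411894295, 375386276982, 274774845541, 201725183094, 201448359030,
  267795390565, 233964469345, 201448359028, 239025194084, 239064609889, 375386277156, 777411894296,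
  983570389016, 409469191428, 340770686276, 554069399576, 914846719000, 306670994788, 274774845537,
  274722915428, 269085705332, 267795390561, 554068084754, 554168756241, 777507122197, 1013524406437,
  554101377043, 554101377044, 565359020086, 640004917270, 746016147475, 746016147476, 752190162998,
  815821948950, 846142901271, 554084599832, 565384185911, 639988140055, 554084599827, 554084599828,
  563211405366, 639988140054, 554085124114, 554135468049, 708758551573, 1081174339813, 846159416343,
  554101377048, 565359020087, 640004917271, 777427159059, 777427159060, 788709836854, 708703488022,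
  708703488019, 708703488020, 754337515574, 777427159062, 914883152919, 640004917272, 563211405367,
  554101377047, 708704012306, 708758551569, 554135468053, 1030427456757, 639988140051, 639988140052,
  651279337526, 554084599830, 914866637847, 639988140056, 563228182583, 554084599831, 815821948947,
  815821948948, 820922222646, 746016147478, 640004917267, 640004917268, 683499849782, 554101377046,
  777410643986, 777507122193, 554168756245, 1098094159029, 846125861906, 914950268949, 983669681169,
  565518534837, 846159154195, 870570200102, 846159154196, 914882825238, 983602367507, 1005861604390,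
  983602367508, 1052317649942, 554085124119, 563195152439, 556769609752, 914866048023, 983581395987,
  1008009022502, 983581395988, 1052305067030, 557859866647, 564268763191, 554101639192, 846159154199,
  914866637842, 1052355869717, 914912786449, 720397732069, 914866048019, 937150385190, 914866048020,
  846142376982, 846142376979, 868422519846, 846142376980, 914866048022, 846142901266, 914912786453,
  1052355869713, 566558984437, 554101639191, 563194890295, 557859866648, 914882825239, 1052305067027,
  1059557018662, 1052305067028, 983581395990, 556769609751, 564269025335, 554085124120, 846142376983,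
  1052317649939, 1074589469734, 1052317649940, 983602367510, 914882825235, 922118196262, 914882825236,
  846159154198, 914845404178, 983669681173, 914950268945, 790144551077, 550839001111, 545562231942,
  512016188550, 552986615831, 0, 0, 0, 0, 0, 0, 0, 0, 983582977047, 305601709238, 339701400758, 1020358765591,
  0, 0, 0, 0, 983603623959, 545277084902, 510657299686, 1021184718871, 980877653015, 405950891222, 371851199702,
  1016579699735, 0, 0, 0, 0, 0, 0, 0, 0, 1049597063191, 477128230086, 443045315782, 1085030674455,
  1052318972951, 549056152822, 514973238518, 1090168503319, 0, 0, 0, 0, 556233271319, 473340314790,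
  438720529574, 554085656599, 0, 0, 0, 0, 0, 0, 0, 0, 1049596863511, 545272824982, 510636262550, 1086372652055,
  551376396311, 511710004358, 545809695878, 553524011031, 0, 0, 0, 0, 0, 0, 0, 0, 554086180887, 440897373350,
  475517158566, 556233795607, 0, 0, 0, 0, 551376662551, 443259225286, 476822045894, 552450535447, 554102700055,
  507457045734, 542076830950, 557324056599, 0, 0, 0, 0, 0, 0, 0, 0, 640006306839, 339668108534, 305568417014,
  643496098839, 637276075031, 440897832150, 475517617366, 638618383383, 0, 0, 0, 0, 1020358241303, 445162980534,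
  479245894838, 983582452759, 0, 0, 0, 0, 0, 0, 0, 0, 1083687642135, 372970816662, 407053730966, 1051207083031]

theorem cls_ok : clsOK (tw gU) clsC = true := by decide +kernel

theorem sp_rp : ∀ i < 9, sp (rp i) = true := by decide +kernel

theorem cls_of {us : List M} {cs : List ℕ} (h : clsOK us cs = true) {u : M} (hu : u ∈ us) (su : sp u = true)
    (h4 : tS u ^ 4 = 1) (h1 : tS u ≠ 1) : ∃ i < 9, ∃ ρ : Sp, ρ * tS (rp i) * ρ⁻¹ = tS u := by
  induction us generalizing cs with
  | nil => cases hu
  | cons v us ih =>
    cases cs with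
    | nil => cases h
    | cons c cs =>
      simp only [clsOK, Bool.and_eq_true, Bool.or_eq_true, Bool.not_eq_true', Nat.blt_eq] at h
      rcases List.mem_cons.1 hu with rfl | j
      · rcases h.1 with i | i | ⟨i, j, k⟩
        · rw [show 4 = 2 * 2 from rfl, pow_mul, pow_two, pow_two, ← tS_mul su su, ← tS_one,
            tS_sq (sp_mul su su) sp_one, i] at h4
          cases h4
        · exact absurd (tS_one ▸ (tS_eq su sp_one).2 i) h1
        · refine ⟨_, i, tS (dec (c / 16)), mul_inv_eq_iff_eq_mul.2 ?_⟩
          rwa [← tS_mul j (sp_rp _ i), ← tS_mul su j, tS_eq (sp_mul j (sp_rp _ i)) (sp_mul su j)]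
      · exact ih h.2 j

/-- every element of order 2 or 4 is conjugate to one of the nine representatives -/
theorem cls {s : Sp} (h4 : s ^ 4 = 1) (h1 : s ≠ 1) : ∃ i < 9, ∃ ρ : Sp, ρ * tS (rp i) * ρ⁻¹ = s := by
  have : Fact (Nat.Prime 2) := ⟨Nat.prime_two⟩
  obtain ⟨-, i2, i3, i4, i5⟩ := tw_spec gU_ok
  have hc : Nat.card (cl (gU.map tS)) = 2 ^ 9 := card_cl i3 i4
  have hi : (cl (gU.map tS)).index = 2835 := by
    have := (cl (gU.map tS)).card_mul_index
    rw [hc, card_Sp] at this; omega
  let P := (IsPGroup.of_card hc).toSylow (by rw [hi]; norm_num)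
  obtain ⟨Q, hQ⟩ := (show IsPGroup 2 (zpowers s) from by
    rintro ⟨_, k, rfl⟩
    exact ⟨2, Subtype.ext (by
      rw [coe_pow, coe_one, ← zpow_natCast, ← zpow_mul, mul_comm, zpow_mul, zpow_natCast, show 2 ^ 2 = 4 from rfl, h4,
        one_zpow])⟩).exists_le_sylow
  obtain ⟨g, hg⟩ := MulAction.exists_smul_eq Sp Q P
  have : g * s * g⁻¹ ∈ cl (gU.map tS) := by
    change _ ∈ (P : Subgroup Sp)
    rw [← hg]; exact smul_mem_pointwise_smul _ (MulAut.conj g) _ (hQ (mem_zpowers s))
  obtain ⟨u, hu, e⟩ := (i5 _).1 this
  obtain ⟨i, hi, ρ, k⟩ := cls_of cls_ok hu (i2 u hu) (by rw [← e, conj_pow, h4]; simp) (by rw [← e]; simpa using h1)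
  exact ⟨i, hi, g⁻¹ * ρ, by rw [mul_inv_rev, mul_assoc g⁻¹, mul_assoc g⁻¹, ← mul_assoc _ ρ⁻¹, k, ← e]; group⟩

end Cfsg.Agent.S6
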